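import Mathlib.CategoryTheory.Abelian.Injective.Ext
import Mathlib.CategoryTheory.Abelian.RightDerived
import Mathlib.CategoryTheory.Abelian.FunctorCategory
import Mathlib.CategoryTheory.Limits.FunctorCategory.EpiMono
import Mathlib.Algebra.Category.Grp.Abelian
import Mathlib.Algebra.Category.Grp.EpiMono
import Mathlib.Algebra.Homology.ShortComplex.Ab
import Mathlib.CategoryTheory.Preadditive.Yoneda.Basic

/-!
# The derived functors of `F ↦ (U ↦ Hom(G U, F))` are `U ↦ Ext(G U, F)`
-/

universe w v u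

open CategoryTheory Limits Opposite Abelian

namespace GrothLib.SheafCoh

variable {C : Type w} [Category.{w} C] {A : Type u} [Category.{v} A] [Abelian A]

/-- `F ↦ (U ↦ Hom(G U, F))`. -/
noncomputable def homPre (G : C ⥤ A) : A ⥤ Cᵒᵖ ⥤ AddCommGrpCat.{v} :=
  preadditiveYoneda ⋙ (Functor.whiskeringLeft _ _ _).obj G.op

instance (G : C ⥤ A) : (homPre G).Additive where
  map_add {X Y f g} := by
    ext U φ
    exact Preadditive.comp_add _ _ _ φ f g

lemma homPre_map_app (G : C ⥤ A) {X Y : A} (f : X ⟶ Y) (U : Cᵒᵖ) (φ : G.obj U.unop ⟶ X) :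
    ((homPre G).map f).app U φ = φ ≫ f := rfl

lemma homPre_obj_map (G : C ⥤ A) (X : A) {U V : Cᵒᵖ} (g : U ⟶ V) (φ : G.obj U.unop ⟶ X) :
    ((homPre G).obj X).map g φ = G.map g.unop ≫ φ := rfl

variable [HasExt.{v} A]

/-- The bifunctor `F, U ↦ Ext(G U, F)`. -/
noncomputable abbrev extPreFunctor (G : C ⥤ A) (n : ℕ) : A ⥤ Cᵒᵖ ⥤ AddCommGrpCat.{v} :=
  Functor.flip (G.op ⋙ extFunctor n)

/-- `extPre` as an `Ext` group. -/
noncomputable def extPreEquiv (G : C ⥤ A) (F : A) (n : ℕ) (U : C) :
    ((extPreFunctor G n).obj F).obj (op U) ≃+ Ext.{v} (G.obj U) F n :=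
  AddEquiv.refl _

lemma extPreEquiv_map (G : C ⥤ A) (F : A) (n : ℕ) {U V : C} (f : V ⟶ U)
    (x : ((extPreFunctor G n).obj F).obj (op U)) :
    extPreEquiv G F n V (((extPreFunctor G n).obj F).map f.op x) =
      (Ext.mk₀ (G.map f)).comp (extPreEquiv G F n U x) (zero_add n) := rfl

lemma extPreEquiv_app (G : C ⥤ A) {F F' : A} (g : F ⟶ F') (n : ℕ) (U : C)
    (x : ((extPreFunctor G n).obj F).obj (op U)) :
    extPreEquiv G F' n U (((extPreFunctor G n).map g).app (op U) x) =
      (extPreEquiv G F n U x).comp (Ext.mk₀ g) (add_zero n) := rfl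

/-- The presheaf `U ↦ Ext(G U, F)`. -/
noncomputable def extPre (G : C ⥤ A) (F : A) (n : ℕ) : Cᵒᵖ ⥤ AddCommGrpCat.{v} :=
  (Functor.flip (G.op ⋙ extFunctor n)).obj F

variable (G : C ⥤ A) {F : A} (I : InjectiveResolution F)

/-- `Hom(G -, I)`. -/
noncomputable abbrev homCx : CochainComplex (Cᵒᵖ ⥤ AddCommGrpCat.{v}) ℕ :=
  ((homPre G).mapHomologicalComplex (ComplexShape.up ℕ)).obj I.cocomplex

omit [HasExt.{v} A] in
lemma homCx_iCycles_comp_d (n : ℕ) (U : Cᵒᵖ) (z : ((homCx G I).cycles n).obj U) :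
    (((homCx G I).iCycles n).app U z : G.obj U.unop ⟶ I.cocomplex.X n) ≫
      I.cocomplex.d n (n + 1) = 0 :=
  ConcreteCategory.congr_hom (NatTrans.congr_app ((homCx G I).iCycles_d n (n + 1)) U) z

/-- A cocycle gives an `Ext` class. -/
noncomputable def cyclesToExtPre (n : ℕ) : (homCx G I).cycles n ⟶ extPre G F n where
  app U := AddCommGrpCat.ofHom (AddMonoidHom.mk'
    (fun z => (I.extMk (((homCx G I).iCycles n).app U z)
      (n + 1) rfl (homCx_iCycles_comp_d G I n U z) : Ext (G.obj U.unop) F n))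
    (fun a b => by
      rw [InjectiveResolution.add_extMk]
      congr 1
      exact map_add _ a b))
  naturality {U V} g := by
    ext z
    change I.extMk (((homCx G I).iCycles n).app V (((homCx G I).cycles n).map g z))
        (n + 1) rfl (homCx_iCycles_comp_d G I n V _) =
      (Ext.mk₀ (G.map g.unop)).comp
        (I.extMk (((homCx G I).iCycles n).app U z) (n + 1) rfl
          (homCx_iCycles_comp_d G I n U z)) (zero_add n)
    rw [InjectiveResolution.mk₀_comp_extMk]
    congr 1
    exact ConcreteCategory.congr_hom (((homCx G I).iCycles n).naturality g) z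

lemma cyclesToExtPre_apply (n : ℕ) (U : Cᵒᵖ) (z : ((homCx G I).cycles n).obj U) :
    (cyclesToExtPre G I n).app U z =
      I.extMk (((homCx G I).iCycles n).app U z) (n + 1) rfl (homCx_iCycles_comp_d G I n U z) :=
  rfl

lemma toCycles_cyclesToExtPre (m n : ℕ) :
    (homCx G I).toCycles m n ≫ cyclesToExtPre G I n = 0 := by
  by_cases h : m + 1 = n
  · ext U t
    change (cyclesToExtPre G I n).app U (((homCx G I).toCycles m n).app U t) = 0
    rw [cyclesToExtPre_apply]
    exact (I.extMk_eq_zero_iff _ _ _ _ m h).2 ⟨t,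
      (ConcreteCategory.congr_hom
        (NatTrans.congr_app ((homCx G I).toCycles_i m n) U) t).symm⟩
  · rw [HomologicalComplex.toCycles_eq_zero _ h, zero_comp]

/-- The comparison from homology to `Ext`. -/
noncomputable def homologyToExtPre (n : ℕ) : (homCx G I).homology n ⟶ extPre G F n :=
  ((homCx G I).homologyIsCokernel _ n rfl).desc
    (CokernelCofork.ofπ (cyclesToExtPre G I n) (toCycles_cyclesToExtPre G I _ n))

lemma homologyπ_homologyToExtPre (n : ℕ) :
    (homCx G I).homologyπ n ≫ homologyToExtPre G I n = cyclesToExtPre G I n :=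
  ((homCx G I).homologyIsCokernel _ n rfl).fac
    (CokernelCofork.ofπ (cyclesToExtPre G I n) (toCycles_cyclesToExtPre G I _ n))
    WalkingParallelPair.one

open CochainComplex.HomComplex in
lemma extMk_eq_zero_zero {X Y : A} (R : InjectiveResolution Y)
    (f : X ⟶ R.cocomplex.X 0) (hf : f ≫ R.cocomplex.d 0 1 = 0)
    (h : R.extMk f 1 rfl hf = 0) : f = 0 := by
  rw [← R.extEquivCohomologyClass.apply_eq_iff_eq, R.extEquivCohomologyClass_extMk,
    R.extEquivCohomologyClass_zero, CohomologyClass.mk_eq_zero_iff,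
    Cocycle.fromSingleMk_mem_coboundaries_iff _ _ _ _ _ (-1) (by lia)] at h
  obtain ⟨g, hg⟩ := h
  have : g = 0 := (R.cochainComplex.isZero_of_isStrictlyGE 0 (-1) (by lia)).eq_of_tgt _ _
  rw [this, zero_comp] at hg
  rw [← cancel_mono (R.cochainComplexXIso 0 0 rfl).inv, zero_comp]
  exact hg.symm

lemma homologyToExtPre_injective (n : ℕ) (U : Cᵒᵖ) :
    Function.Injective ((homologyToExtPre G I n).app U) := by
  rw [injective_iff_map_eq_zero]
  intro x hx
  obtain ⟨z, rfl⟩ := (AddCommGrpCat.epi_iff_surjective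
    (((homCx G I).homologyπ n).app U)).1 inferInstance x
  have hz : (cyclesToExtPre G I n).app U z = 0 :=
    ((ConcreteCategory.congr_hom
      (NatTrans.congr_app (homologyπ_homologyToExtPre G I n) U) z).symm.trans hx :)
  rw [cyclesToExtPre_apply] at hz
  have hinj : Function.Injective (((homCx G I).iCycles n).app U) :=
    (AddCommGrpCat.mono_iff_injective _).1 inferInstance
  cases n with
  | zero =>
    have h0 := extMk_eq_zero_zero I _ _ hz
    have : z = 0 := hinj (h0.trans (map_zero _).symm)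
    rw [this, map_zero]
  | succ m =>
    obtain ⟨g, hg⟩ := (I.extMk_eq_zero_iff _ _ _ _ m rfl).1 hz
    have : z = ((homCx G I).toCycles m (m + 1)).app U g := hinj (hg.symm.trans
      (ConcreteCategory.congr_hom
        (NatTrans.congr_app ((homCx G I).toCycles_i m (m + 1)) U) g).symm)
    rw [this]
    exact ConcreteCategory.congr_hom
      (NatTrans.congr_app ((homCx G I).toCycles_comp_homologyπ m (m + 1)) U) g

omit [HasExt.{v} A] in
lemma exists_cycle (n : ℕ) (U : Cᵒᵖ) (f : G.obj U.unop ⟶ I.cocomplex.X n)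
    (hf : f ≫ I.cocomplex.d n (n + 1) = 0) :
    ∃ z : ((homCx G I).cycles n).obj U, ((homCx G I).iCycles n).app U z = f := by
  let ev := (evaluation Cᵒᵖ AddCommGrpCat.{v}).obj U
  have h : IsLimit (KernelFork.ofι ((homCx G I).iCycles n) ((homCx G I).iCycles_d n (n + 1))) :=
    (homCx G I).cyclesIsKernel n (n + 1) (by simp)
  have h' := KernelFork.mapIsLimit _ h ev
  let S := ShortComplex.mk (((homCx G I).iCycles n).app U) (((homCx G I).d n (n + 1)).app U)
    (NatTrans.congr_app ((homCx G I).iCycles_d n (n + 1)) U)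
  have hS : S.Exact := S.exact_of_f_is_kernel h'
  exact (ShortComplex.ab_exact_iff S).1 hS f hf

lemma homologyToExtPre_surjective (n : ℕ) (U : Cᵒᵖ) :
    Function.Surjective ((homologyToExtPre G I n).app U) := by
  intro α
  obtain ⟨f, hf, rfl⟩ := I.extMk_surjective α (n + 1) rfl
  obtain ⟨z, hz⟩ := exists_cycle G I n U f hf
  refine ⟨((homCx G I).homologyπ n).app U z, ?_⟩
  refine (ConcreteCategory.congr_hom
    (NatTrans.congr_app (homologyπ_homologyToExtPre G I n) U) z).trans ?_
  rw [cyclesToExtPre_apply]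
  congr 1

theorem isIso_homologyToExtPre (n : ℕ) : IsIso (homologyToExtPre G I n) := by
  have : ∀ U, IsIso ((homologyToExtPre G I n).app U) := fun U =>
    (ConcreteCategory.isIso_iff_bijective _).2
      ⟨homologyToExtPre_injective G I n U, homologyToExtPre_surjective G I n U⟩
  exact NatIso.isIso_of_isIso_app _

/-- `R^n (F ↦ Hom(G -, F)) = Ext^n(G -, F)`. -/
noncomputable def rightDerivedHomPreIso [HasInjectiveResolutions A] (F : A) (n : ℕ) :
    ((homPre G).rightDerived n).obj F ≅ extPre G F n :=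
  (injectiveResolution F).isoRightDerivedObj (homPre G) n ≪≫
    @asIso _ _ _ _ (homologyToExtPre G (injectiveResolution F) n)
      (isIso_homologyToExtPre G (injectiveResolution F) n)

end GrothLib.SheafCoh
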