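import Groth.Agent.Lib.SheafCoh.Sections
import Groth.Agent.Lib.SheafCoh.ExtDerived

/-!
# The derived functors of the inclusion into presheaves are the cohomology presheaves
-/

universe w v u

open CategoryTheory Limits Opposite

namespace GrothLib.SheafCoh

/-- Naturally isomorphic functors have isomorphic right derived functors. -/
noncomputable def rightDerivedCongr {A B : Type*} [Category* A] [Category* B] [Abelian A] [Abelian B]
    [HasInjectiveResolutions A] {F G : A ⥤ B} [F.Additive] [G.Additive] (e : F ≅ G) (n : ℕ) :
    F.rightDerived n ≅ G.rightDerived n where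
  hom := NatTrans.rightDerived e.hom n
  inv := NatTrans.rightDerived e.inv n
  hom_inv_id := by rw [← NatTrans.rightDerived_comp, e.hom_inv_id, NatTrans.rightDerived_id]
  inv_hom_id := by rw [← NatTrans.rightDerived_comp, e.inv_hom_id, NatTrans.rightDerived_id]

variable {C : Type u} [SmallCategory C] (J : GrothendieckTopology C)

/-- Sections are maps out of free sheaves, naturally. -/
noncomputable def homPreIso :
    homPre (freeYFunctor J) ≅ sheafToPresheaf J AddCommGrpCat.{u} :=
  NatIso.ofComponents
    (fun F => NatIso.ofComponents (fun U => (homFreeY F U.unop).toAddCommGrpIso)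
      (fun {U V} g => by
        ext φ
        exact homFreeY_map F g.unop φ))
    (fun {F F'} g => by
      ext U φ
      exact homFreeY_comp U.unop φ g)

variable {J}

/-- `R^n` of the inclusion into presheaves is `U ↦ H^n(U, F)`. -/
noncomputable def rightDerivedSheafToPresheafIso (F : Sheaf J AddCommGrpCat.{u}) (n : ℕ) :
    ((sheafToPresheaf J AddCommGrpCat.{u}).rightDerived n).obj F ≅
      Sheaf.cohomologyPresheaf.{u} F n :=
  ((rightDerivedCongr (homPreIso J) n).app F).symm ≪≫ rightDerivedHomPreIso (freeYFunctor J) F n ≪≫
    ((cpfIso (J := J) n).app F).symm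

end GrothLib.SheafCoh
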