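import Groth.Agent.Lib.SheafCoh.Derived
import Mathlib.Algebra.Homology.ShortComplex.HomologicalComplex
import Mathlib.Algebra.Homology.ShortComplex.PreservesHomology
import Mathlib.CategoryTheory.Sites.LeftExact

/-!
# Higher direct images are sheafified cohomology presheaves
-/

universe w v u

open CategoryTheory Limits Opposite

namespace GrothLib.SheafCoh

section

variable {A B D : Type*} [Category* A] [Category* B] [Category* D] [Abelian A] [Abelian B]
  [Abelian D]

/-- Exact functors commute with homology. -/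
noncomputable def mapHCHomologyIso (E : B ⥤ D) [E.Additive] [E.PreservesHomology]
    (K : CochainComplex B ℕ) (n : ℕ) :
    ((E.mapHomologicalComplex (ComplexShape.up ℕ)).obj K).homology n ≅ E.obj (K.homology n) :=
  (K.sc n).mapHomologyIso E

/-- `R^n (E ∘ G) = E ∘ R^n G` for exact `E`. -/
noncomputable def rightDerivedPostExactIso [HasInjectiveResolutions A] (Φ : A ⥤ D) [Φ.Additive]
    (G : A ⥤ B) [G.Additive] (E : B ⥤ D) [E.Additive] [E.PreservesHomology]
    (e : Φ ≅ G ⋙ E) (F : A) (n : ℕ) :
    (Φ.rightDerived n).obj F ≅ E.obj ((G.rightDerived n).obj F) :=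
  (injectiveResolution F).isoRightDerivedObj Φ n ≪≫
    (HomologicalComplex.homologyFunctor _ _ n).mapIso
      (((NatIso.mapHomologicalComplex e (ComplexShape.up ℕ)) ≪≫
        (Functor.mapHomologicalComplexCompIso (Iso.refl (G ⋙ E))
          (ComplexShape.up ℕ)).symm).app (injectiveResolution F).cocomplex) ≪≫
    mapHCHomologyIso E _ n ≪≫
    E.mapIso ((injectiveResolution F).isoRightDerivedObj G n).symm

end

variable {C : Type u} [SmallCategory C] {J : GrothendieckTopology C}
  {D : Type w} [Category.{v} D] [Abelian D]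

/-- `R^n (E ∘ ι) = E ∘ H^n` for an exact functor `E` on presheaves. -/
noncomputable def rightDerivedCompIso (Φ : Sheaf J AddCommGrpCat.{u} ⥤ D) [Φ.Additive]
    (E : (Cᵒᵖ ⥤ AddCommGrpCat.{u}) ⥤ D) [E.Additive] [E.PreservesHomology]
    (e : Φ ≅ sheafToPresheaf J AddCommGrpCat.{u} ⋙ E) (F : Sheaf J AddCommGrpCat.{u}) (n : ℕ) :
    (Φ.rightDerived n).obj F ≅ E.obj (Sheaf.cohomologyPresheaf.{u} F n) :=
  rightDerivedPostExactIso Φ (sheafToPresheaf J AddCommGrpCat.{u}) E e F n ≪≫
    E.mapIso (rightDerivedSheafToPresheafIso F n)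

variable {C' : Type u} [SmallCategory C'] (K : GrothendieckTopology C')

/-- Precompose with `u`, then sheafify. -/
noncomputable abbrev precompSheafify (u : C' ⥤ C) :
    (Cᵒᵖ ⥤ AddCommGrpCat.{u}) ⥤ Sheaf K AddCommGrpCat.{u} :=
  (Functor.whiskeringLeft _ _ _).obj u.op ⋙ presheafToSheaf K AddCommGrpCat.{u}

instance preservesHomology_precompSheafify (u : C' ⥤ C) :
    (precompSheafify (C := C) K u).PreservesHomology := by
  have : ((Functor.whiskeringLeft _ _ AddCommGrpCat.{u}).obj u.op).PreservesHomology := by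
    have := Functor.preservesHomologyOfExact
      ((Functor.whiskeringLeft _ _ AddCommGrpCat.{u}).obj u.op)
    infer_instance
  have : (presheafToSheaf K AddCommGrpCat.{u}).PreservesHomology :=
    Functor.preservesHomologyOfExact _
  infer_instance

end GrothLib.SheafCoh

namespace GrothLib.SheafCoh

variable {C : Type u} [SmallCategory C] {J : GrothendieckTopology C}
  {C' : Type u} [SmallCategory C'] (K : GrothendieckTopology C')

noncomputable def pushIso (u : C' ⥤ C) [u.IsContinuous K J] :
    CohSite.push J K u ≅ sheafToPresheaf J AddCommGrpCat.{u} ⋙ precompSheafify K u :=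
  Functor.isoWhiskerLeft (CohSite.push J K u) (sheafificationNatIso K AddCommGrpCat.{u})

/-- `R^n u_* F` is the sheafification of `V ↦ H^n(u V, F)`. -/
noncomputable def RpushIso (u : C' ⥤ C) [u.IsContinuous K J] (F : Sheaf J AddCommGrpCat.{u})
    (n : ℕ) :
    (CohSite.Rpush J K u n).obj F ≅
      (presheafToSheaf K AddCommGrpCat.{u}).obj (u.op ⋙ Sheaf.cohomologyPresheaf.{u} F n) :=
  rightDerivedCompIso (CohSite.push J K u) (precompSheafify K u) (pushIso K u) F n

theorem isZero_Rpush_of_subsingleton (u : C' ⥤ C) [u.IsContinuous K J]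
    (F : Sheaf J AddCommGrpCat.{u}) (n : ℕ)
    (h : ∀ V : C', Subsingleton (CohSite.HU F n (u.obj V))) :
    IsZero ((CohSite.Rpush J K u n).obj F) := by
  refine IsZero.of_iso ?_ (RpushIso K u F n)
  refine (presheafToSheaf K AddCommGrpCat.{u}).map_isZero (Functor.isZero _ fun V => ?_)
  have : Subsingleton ↑(Sheaf.H' F n (u.obj V.unop)) := h V.unop
  exact @AddCommGrpCat.isZero_of_subsingleton _ this

end GrothLib.SheafCoh
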