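import Groth.Agent.Lib.SheafCoh.Instances
import Groth.Prelude.Def_CohTop
import Mathlib.CategoryTheory.Sites.Pullback
import Mathlib.CategoryTheory.Preadditive.Injective.Basic

/-!
# Inverse image of sheaves on spaces is exact, direct image preserves injectives
-/

universe u

open CategoryTheory Limits

namespace GrothLib.SheafCoh

theorem preservesFiniteLimits_pull {X Y : TopCat.{u}} (f : X ⟶ Y) :
    PreservesFiniteLimits (CohTop.pull f) :=
  let G := TopologicalSpace.Opens.map f
  have : RepresentablyFlat G := inferInstanceAs (RepresentablyFlat (TopologicalSpace.Opens.map f))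
  have : PreservesFiniteLimits
      (G.op.lan : (_ ⥤ (TopologicalSpace.Opens X)ᵒᵖ ⥤ AddCommGrpCat.{u})) :=
    lan_preservesFiniteLimits_of_flat _ _
  Functor.sheafPullbackConstruction.preservesFiniteLimits G AddCommGrpCat.{u}
    (Opens.grothendieckTopology Y) (Opens.grothendieckTopology X)

theorem injective_push {X Y : TopCat.{u}} (f : X ⟶ Y) (I : CohTop.Ab X) [hI : Injective I] :
    Injective ((CohTop.push f).obj I) :=
  have : PreservesFiniteLimits (CohTop.pull f) := preservesFiniteLimits_pull f
  have : (TopCat.Sheaf.pullback AddCommGrpCat.{u} f).PreservesMonomorphisms :=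
    preservesMonomorphisms_of_preservesLimitsOfShape (CohTop.pull f)
  @Injective.injective_of_adjoint _ _ _ _ _ _ this
    (TopCat.Sheaf.pullbackPushforwardAdjunction AddCommGrpCat.{u} f) I hI

end GrothLib.SheafCoh
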