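import Groth.Agent.Lib.SheafCoh.Sections

/-!
# `H^n(F) = H^n(T, F)` for a terminal object `T`
-/

universe w v u

open CategoryTheory Limits Opposite Abelian

namespace GrothLib.SheafCoh

/-- Precomposition with an isomorphism on `Ext`. -/
noncomputable def extPrecompIso {A : Type v} [Category.{u} A] [Abelian A] [HasExt.{w} A]
    {X X' : A} (e : X ≅ X') (Y : A) (n : ℕ) : Ext.{w} X' Y n ≃+ Ext.{w} X Y n where
  toFun x := (Ext.mk₀ e.hom).comp x (zero_add n)
  invFun x := (Ext.mk₀ e.inv).comp x (zero_add n)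
  left_inv x := by simp
  right_inv x := by simp
  map_add' x y := Ext.comp_add _ _ _ _

/-- Postcomposition with an isomorphism on `Ext`. -/
noncomputable def extPostcompIso {A : Type v} [Category.{u} A] [Abelian A] [HasExt.{w} A]
    (X : A) {Y Y' : A} (e : Y ≅ Y') (n : ℕ) : Ext.{w} X Y n ≃+ Ext.{w} X Y' n where
  toFun x := x.comp (Ext.mk₀ e.hom) (add_zero n)
  invFun x := x.comp (Ext.mk₀ e.inv) (add_zero n)
  left_inv x := by simp
  right_inv x := by simp
  map_add' x y := Ext.add_comp _ _ _ _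

variable {C : Type u} [SmallCategory C] {J : GrothendieckTopology C}

/-- `ℤ[pt] = ℤ`. -/
noncomputable def freeUniqueIso (α : Type u) [Unique α] :
    AddCommGrpCat.free.{u}.obj α ≅ AddCommGrpCat.of (ULift.{u} ℤ) :=
  ((FreeAbelianGroup.uniqueEquiv α).trans AddEquiv.ulift.symm).toAddCommGrpIso

/-- The free sheaf on a terminal object is the constant sheaf `ℤ`. -/
noncomputable def freeYTerminalIso {T : C} (hT : IsTerminal T) :
    freeY J T ≅ (constantSheaf J AddCommGrpCat.{u}).obj (AddCommGrpCat.of (ULift.{u} ℤ)) :=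
  have : ∀ V, Unique (V ⟶ T) := fun V => ⟨⟨hT.from V⟩, fun _ => hT.hom_ext _ _⟩
  (presheafToSheaf J AddCommGrpCat.{u}).mapIso
    (NatIso.ofComponents (fun V => freeUniqueIso (V.unop ⟶ T)) (fun {V W} g => by
      refine AddCommGrpCat.hom_ext (FreeAbelianGroup.lift_ext _ _ fun a => ?_)
      apply ULift.ext
      change FreeAbelianGroup.lift (fun _ => (1 : ℤ)) (FreeAbelianGroup.map ((yoneda.obj T).map g) (FreeAbelianGroup.of a)) =
        FreeAbelianGroup.lift (fun _ => (1 : ℤ)) (FreeAbelianGroup.of a)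
      simp))

/-- `H^n(F) ≃ H^n(T, F)` for terminal `T`. -/
noncomputable def HEquivHU (F : Sheaf J AddCommGrpCat.{u}) (n : ℕ) {T : C} (hT : IsTerminal T) :
    Sheaf.H.{u} F n ≃+ CohSite.HU F n T :=
  (extPrecompIso (freeYTerminalIso hT) F n).trans (HUext F n T).symm

lemma HEquivHU_map {F G : Sheaf J AddCommGrpCat.{u}} (g : F ⟶ G) (n : ℕ) {T : C}
    (hT : IsTerminal T) (x : Sheaf.H.{u} F n) :
    HEquivHU G n hT (Sheaf.H.map g n x) =
      (((Sheaf.cohomologyPresheafFunctor J n).map g).app (op T)).hom (HEquivHU F n hT x) :=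
  (Ext.comp_assoc _ _ _ (zero_add n) (add_zero n) (by omega)).symm

end GrothLib.SheafCoh
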