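import Groth.Agent.Lib.SheafCoh.Acyclic
import Groth.Agent.Lib.SheafCoh.Terminal
import Groth.Prelude.Def_CohTop

/-!
# Flasque sheaves on spaces
-/

universe u

open CategoryTheory Limits Opposite TopologicalSpace

namespace GrothLib.SheafCoh

variable {X : TopCat.{u}}

theorem isFlasque_of_injective (F : CohTop.Ab X) [Injective F] : TopCat.Sheaf.IsFlasque F :=
  ⟨fun i => (AddCommGrpCat.epi_iff_surjective _).2
    (restriction_surjective_of_injective F i.unop)⟩

theorem flasque_sections_surjective {S : ShortComplex (CohTop.Ab X)} (hS : S.ShortExact)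
    [h : TopCat.Sheaf.IsFlasque S.X₁] (U : Opens X) :
    Function.Surjective (S.g.hom.app (op U)) :=
  (AddCommGrpCat.epi_iff_surjective _).1
    (TopCat.Sheaf.IsFlasque.epi_of_shortExact (X := X) (U := U) hS)

theorem flasque_HU_subsingleton (F : CohTop.Ab X) [hF : TopCat.Sheaf.IsFlasque F]
    (n : ℕ) (U : Opens X) : Subsingleton (CohTop.HU F (n + 1) U) :=
  subsingleton_HU_of_class (J := Opens.grothendieckTopology X) U
    (fun G => TopCat.Sheaf.IsFlasque G)
    (fun G hG => by
      have hS : ShortComplex.ShortExact (injSES G) := injSES_shortExact G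
      have : TopCat.Sheaf.IsFlasque (injSES G).X₁ := hG
      have : TopCat.Sheaf.IsFlasque (injSES G).X₂ := isFlasque_of_injective (Injective.under G)
      have h₁ : TopCat.Sheaf.IsFlasque (injSES G).X₃ :=
        TopCat.Sheaf.IsFlasque.of_shortExact_of_isFlasque₁₂ (X := X) hS
      have h₂ := flasque_sections_surjective hS U
      exact ⟨h₁, h₂⟩) F hF n

theorem flasque_H_subsingleton (F : CohTop.Ab X) [TopCat.Sheaf.IsFlasque F] (n : ℕ) :
    Subsingleton (CohTop.H F (n + 1)) :=
  @Equiv.subsingleton _ _
    (HEquivHU (J := Opens.grothendieckTopology X) F (n + 1) (isTerminalTop (α := Opens X))).toEquiv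
    (flasque_HU_subsingleton F n ⊤)

end GrothLib.SheafCoh
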