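import Mathlib.CategoryTheory.Abelian.GrothendieckCategory.HasExt
import Mathlib.CategoryTheory.Abelian.GrothendieckAxioms.Sheaf
import Mathlib.Algebra.Category.Grp.AB
import Mathlib.CategoryTheory.Sites.LeftExact
import Groth.Prelude.Def_CohSite

/-!
# Short names for the standard instances on abelian sheaves

`open GrothLib.SheafCoh` (or working inside this namespace) makes these take priority.  The instance
terms found by search are enormous, and when they get abstracted inside definitions the kernel spends
seconds per declaration comparing them; with these named versions checking is fast.
-/

universe u

open CategoryTheory

namespace GrothLib.SheafCoh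

variable {C : Type u} [SmallCategory C] {J : GrothendieckTopology C}

theorem hasSheafifyAb : HasSheafify J AddCommGrpCat.{u} := inferInstance

attribute [scoped instance 10000] hasSheafifyAb

theorem hasExtAb : HasExt.{u} (Sheaf J AddCommGrpCat.{u}) := inferInstance

attribute [scoped instance 10000] hasExtAb

theorem enoughInjectivesAb : EnoughInjectives (Sheaf J AddCommGrpCat.{u}) := inferInstance

attribute [scoped instance 10000] enoughInjectivesAb

end GrothLib.SheafCoh
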