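import Mathlib.Algebra.Category.ModuleCat.Sheaf.Abelian
import Mathlib.Algebra.Category.ModuleCat.Sheaf.Colimits
import Mathlib.Algebra.Category.ModuleCat.Sheaf.Limits
import Mathlib.Algebra.Category.ModuleCat.Presheaf.Generator
import Mathlib.Algebra.Category.ModuleCat.Presheaf.Colimits
import Mathlib.CategoryTheory.Abelian.GrothendieckAxioms.Sheaf
import Mathlib.CategoryTheory.Abelian.GrothendieckCategory.EnoughInjectives
import Mathlib.Algebra.Category.Grp.AB
import Groth.Agent.Lib.SheafCoh.Instances

/-!
# Sheaves of modules on a small site form a Grothendieck abelian category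
-/

universe u

open CategoryTheory Limits Opposite

namespace GrothLib.SheafCoh

variable {C : Type u} [SmallCategory C]

/-- Filtered colimits of presheaves of modules are exact. -/
theorem ab5_presheafOfModules (R : Cᵒᵖ ⥤ RingCat.{u}) (K : Type u) [SmallCategory K]
    [IsFiltered K] : HasExactColimitsOfShape K (PresheafOfModules.{u} R) :=
  have : (PresheafOfModules.toPresheaf.{u} R).ReflectsIsomorphisms := inferInstance
  have : ReflectsFiniteLimits (PresheafOfModules.toPresheaf.{u} R) :=
    ⟨fun _ _ _ => reflectsLimitsOfShape_of_reflectsIsomorphisms⟩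
  HasExactColimitsOfShape.domain_of_functor K (PresheafOfModules.toPresheaf.{u} R)

variable {J : GrothendieckTopology C} (R : Sheaf J RingCat.{u})

/-- The sheafified free modules on representables. -/
noncomputable def modGen (X : C) : SheafOfModules.{u} R :=
  (PresheafOfModules.sheafification (𝟙 R.obj)).obj ((PresheafOfModules.free R.obj).obj (yoneda.obj X))

theorem modGen_isSeparating : ObjectProperty.IsSeparating (ObjectProperty.ofObj (modGen R)) := by
  intro M N f g h
  apply (SheafOfModules.forget R).map_injective
  refine (PresheafOfModules.freeYoneda.isSeparating R.obj) _ _ fun G hG φ => ?_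
  obtain ⟨X⟩ := hG
  let e := (PresheafOfModules.sheafificationAdjunction (𝟙 R.obj)).homEquiv
    ((PresheafOfModules.free R.obj).obj (yoneda.obj X))
  have h1 : e N ((e M).symm φ ≫ f) = e N ((e M).symm φ ≫ g) := congrArg (e N) (h _ ⟨X⟩ _)
  have h2 : ∀ (k : M ⟶ N), e N ((e M).symm φ ≫ k) = φ ≫ (SheafOfModules.forget R).map k := by
    intro k
    refine ((PresheafOfModules.sheafificationAdjunction (𝟙 R.obj)).homEquiv_naturality_right _ k).trans ?_
    exact congrArg (· ≫ _) ((e M).apply_symm_apply φ)
  exact (h2 f).symm.trans (h1.trans (h2 g))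

theorem isGrothendieckAbelian_sheafOfModules : IsGrothendieckAbelian.{u} (SheafOfModules.{u} R) := by
  have h5 : ∀ (K : Type u) [SmallCategory K] [IsFiltered K],
      HasExactColimitsOfShape K (SheafOfModules.{u} R) := fun K _ _ =>
    have := ab5_presheafOfModules R.obj K
    (PresheafOfModules.sheafificationAdjunction (𝟙 R.obj)).hasExactColimitsOfShape K
  exact
    { locallySmall := ⟨fun _ _ => inferInstance⟩
      hasFilteredColimitsOfSize := ⟨fun _ _ _ => inferInstance⟩
      ab5OfSize := ⟨fun K _ _ => h5 K⟩
      hasSeparator := ⟨⟨_, (modGen_isSeparating R).isSeparator_coproduct⟩⟩ }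

theorem enoughInjectives_sheafOfModules : EnoughInjectives (SheafOfModules.{u} R) :=
  have := isGrothendieckAbelian_sheafOfModules R
  inferInstance

end GrothLib.SheafCoh
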