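import Groth.Agent.Lib.SheafCoh.DerivedComp
import Groth.Agent.Lib.SheafCoh.Top

/-!
# Higher direct images of sheaves on spaces
-/

universe u

open CategoryTheory Limits Opposite TopologicalSpace

namespace GrothLib.SheafCoh

variable {X Y : TopCat.{u}} (f : X ⟶ Y)

noncomputable def topRpushIso (F : CohTop.Ab X) (n : ℕ) :
    (CohTop.Rpush f n).obj F ≅
      (presheafToSheaf (Opens.grothendieckTopology Y) AddCommGrpCat.{u}).obj
        ((Opens.map f).op ⋙ Sheaf.cohomologyPresheaf.{u} F n) :=
  RpushIso (J := Opens.grothendieckTopology X) (Opens.grothendieckTopology Y) (Opens.map f) F n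

theorem flasque_Rpush_isZero (F : CohTop.Ab X) [TopCat.Sheaf.IsFlasque F] (n : ℕ) :
    IsZero ((CohTop.Rpush f (n + 1)).obj F) :=
  isZero_Rpush_of_subsingleton (J := Opens.grothendieckTopology X) (Opens.grothendieckTopology Y)
    (Opens.map f) F (n + 1) fun _ => flasque_HU_subsingleton F n _

end GrothLib.SheafCoh
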