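import Groth.Agent.Lib.SheafCoh.ModAcyclic
import Mathlib.Algebra.Category.ModuleCat.Sheaf.Colimits

/-!
# The underlying abelian sheaf functor commutes with colimits
-/

universe u

open CategoryTheory Limits Opposite

namespace GrothLib.SheafCoh

/-- A functor which commutes with colimits after a reflector commutes with colimits. -/
theorem preservesColimit_of_reflector {A B D K : Type*} [Category* A] [Category* B] [Category* D]
    [Category* K] {a : A ⥤ B} {i : B ⥤ A} (adj : a ⊣ i) [IsIso adj.counit] (G : B ⥤ D) (F : K ⥤ B)
    [HasColimit (F ⋙ i)] [PreservesColimit (F ⋙ i) (a ⋙ G)] : PreservesColimit F G := by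
  have : PreservesColimitsOfShape K a := adj.leftAdjoint_preservesColimits.preservesColimitsOfShape
  have hc := isColimitOfPreserves a (colimit.isColimit (F ⋙ i))
  have hGc : IsColimit (G.mapCocone (a.mapCocone (colimit.cocone (F ⋙ i)))) :=
    isColimitOfPreserves (a ⋙ G) (colimit.isColimit (F ⋙ i))
  have : PreservesColimit ((F ⋙ i) ⋙ a) G := preservesColimit_of_preserves_colimit_cocone hc hGc
  exact preservesColimit_of_iso_diagram G
    (Functor.associator F i a ≪≫ Functor.isoWhiskerLeft F (asIso adj.counit) ≪≫ F.rightUnitor)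

theorem preservesColimitsOfSize_toSheaf {C : Type u} [SmallCategory C] {J : GrothendieckTopology C}
    (R : Sheaf J RingCat.{u}) :
    PreservesColimitsOfSize.{u, u} (SheafOfModules.toSheaf.{u} R) :=
  ⟨fun {K} _ => ⟨fun {F} =>
    have : PreservesColimitsOfShape K
        (PresheafOfModules.sheafification (𝟙 R.obj) ⋙ SheafOfModules.toSheaf.{u} R) :=
      inferInstanceAs (PreservesColimitsOfShape K
        (PresheafOfModules.toPresheaf R.obj ⋙ presheafToSheaf J AddCommGrpCat.{u}))
    preservesColimit_of_reflector (PresheafOfModules.sheafificationAdjunction (𝟙 R.obj)) _ F⟩⟩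

end GrothLib.SheafCoh
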