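import Mathlib.Algebra.Homology.DerivedCategory.Ext.ExactSequences
import Mathlib.Algebra.Homology.DerivedCategory.Ext.EnoughInjectives

/-!
# Dimension shifting for Ext
-/

universe w v u

open CategoryTheory Limits Abelian

namespace GrothLib.SheafCoh

variable {A : Type u} [Category.{v} A] [Abelian A] [HasExt.{w} A]

/-- The standard short exact sequence `0 → F → I → G → 0` with `I` injective. -/
noncomputable abbrev injSES [EnoughInjectives A] (F : A) : ShortComplex A :=
  ShortComplex.mk (Injective.ι F) (cokernel.π (Injective.ι F)) (cokernel.condition _)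

omit [HasExt.{w} A] in
lemma injSES_shortExact [EnoughInjectives A] (F : A) : (injSES F).ShortExact :=
  { exact := ShortComplex.exact_of_g_is_cokernel _ (cokernelIsCokernel (injSES F).f) }

variable {X : A} {S : ShortComplex A} (hS : S.ShortExact)

include hS in
lemma extClass_surjective (n : ℕ) (h : Subsingleton (Ext.{w} X S.X₂ (n + 1)))
    (x : Ext X S.X₁ (n + 1)) : ∃ y : Ext X S.X₃ n, y.comp hS.extClass rfl = x :=
  Ext.covariant_sequence_exact₁ X hS x (Subsingleton.elim _ _) rfl

include hS in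
lemma subsingleton_one_of_surjective (h : Subsingleton (Ext.{w} X S.X₂ 1))
    (hsurj : ∀ g : X ⟶ S.X₃, ∃ g' : X ⟶ S.X₂, g' ≫ S.g = g) :
    Subsingleton (Ext.{w} X S.X₁ 1) := by
  refine subsingleton_of_forall_eq 0 fun x => ?_
  obtain ⟨y, rfl⟩ := extClass_surjective hS 0 h x
  obtain ⟨g', hg'⟩ := hsurj (Ext.addEquiv₀ y)
  have hy : y = (Ext.mk₀ g').comp (Ext.mk₀ S.g) (add_zero 0) := by
    rw [Ext.mk₀_comp_mk₀, hg']
    exact (Ext.mk₀_addEquiv₀_apply y).symm
  rw [hy, Ext.comp_assoc_of_second_deg_zero, hS.comp_extClass, Ext.comp_zero]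

include hS in
lemma subsingleton_succ (n : ℕ) (h₂ : Subsingleton (Ext.{w} X S.X₂ (n + 1)))
    (h₃ : Subsingleton (Ext.{w} X S.X₃ n)) :
    Subsingleton (Ext.{w} X S.X₁ (n + 1)) := by
  refine subsingleton_of_forall_eq 0 fun x => ?_
  obtain ⟨y, rfl⟩ := extClass_surjective hS n h₂ x
  rw [Subsingleton.elim y 0, Ext.zero_comp]

include hS in
lemma surjective_of_subsingleton (h : Subsingleton (Ext.{w} X S.X₁ 1)) (g : X ⟶ S.X₃) :
    ∃ g' : X ⟶ S.X₂, g' ≫ S.g = g := by
  obtain ⟨y, hy⟩ := Ext.covariant_sequence_exact₃ X hS (Ext.mk₀ g) rfl (Subsingleton.elim _ _)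
  refine ⟨Ext.addEquiv₀ y, ?_⟩
  have : y = Ext.mk₀ (Ext.addEquiv₀ y) := (Ext.mk₀_addEquiv₀_apply y).symm
  rw [this, Ext.mk₀_comp_mk₀] at hy
  exact (Ext.mk₀_bijective _ _).1 hy

include hS in
lemma extClass_injective (n : ℕ) (h : Subsingleton (Ext.{w} X S.X₂ n)) :
    Function.Injective (fun y : Ext X S.X₃ n => y.comp hS.extClass rfl) := by
  intro a b hab
  rw [← sub_eq_zero]
  have : (a - b).comp hS.extClass rfl = 0 := by
    exact (map_sub (hS.extClass.postcomp X rfl) a b).trans (sub_eq_zero.2 hab)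
  obtain ⟨z, hz⟩ := Ext.covariant_sequence_exact₃ X hS _ rfl this
  rw [← hz, Subsingleton.elim z 0, Ext.zero_comp]

/-- The connecting isomorphism when the middle term is acyclic. -/
noncomputable def extShift (n : ℕ) (h : Subsingleton (Ext.{w} X S.X₂ n))
    (h' : Subsingleton (Ext.{w} X S.X₂ (n + 1))) : Ext X S.X₃ n ≃+ Ext X S.X₁ (n + 1) :=
  AddEquiv.ofBijective (hS.extClass.postcomp X rfl)
    ⟨extClass_injective hS n h, extClass_surjective hS n h'⟩

/-- A class stable under "cokernel in an injective", with surjective sections, is acyclic. -/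
lemma subsingleton_of_class [EnoughInjectives A] (X : A) (P : A → Prop)
    (hP : ∀ F, P F → P (cokernel (Injective.ι F)) ∧
      ∀ g : X ⟶ cokernel (Injective.ι F),
        ∃ g' : X ⟶ Injective.under F, g' ≫ cokernel.π (Injective.ι F) = g)
    (F : A) (hF : P F) (n : ℕ) : Subsingleton (Ext.{w} X F (n + 1)) := by
  induction n generalizing F with
  | zero =>
    exact subsingleton_one_of_surjective (injSES_shortExact F)
      (Ext.subsingleton_of_injective _ _ _) (hP F hF).2
  | succ n ih =>
    exact subsingleton_succ (injSES_shortExact F) (n + 1)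
      (Ext.subsingleton_of_injective _ _ _) (ih _ (hP F hF).1)

end GrothLib.SheafCoh
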