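import Groth.Agent.Lib.SheafCoh.Sections
import Groth.Agent.Lib.SheafCoh.Shift

/-!
# Acyclicity criteria and killing classes locally
-/

universe u

open CategoryTheory Limits Opposite Abelian

namespace GrothLib.SheafCoh

variable {C : Type u} [SmallCategory C] {J : GrothendieckTopology C}

lemma imageSieve_mem_of_epi {F G : Sheaf J AddCommGrpCat.{u}} (g : F ⟶ G) [Epi g] {U : C}
    (s : G.obj.obj (op U)) : Presheaf.imageSieve g.hom s ∈ J U := by
  have : Sheaf.IsLocallySurjective g := (Sheaf.isLocallySurjective_iff_epi' _ g).2 inferInstance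
  exact Presheaf.imageSieve_mem J g.hom s

/-- Classes of sheaves with surjective sections onto the cokernel in an injective are acyclic. -/
theorem subsingleton_HU_of_class (U : C) (P : Sheaf J AddCommGrpCat.{u} → Prop)
    (hP : ∀ F, P F → P (cokernel (Injective.ι F)) ∧
      Function.Surjective ((cokernel.π (Injective.ι F)).hom.app (op U)))
    (F : Sheaf J AddCommGrpCat.{u}) (hF : P F) (n : ℕ) :
    Subsingleton (CohSite.HU F (n + 1) U) := by
  refine @Equiv.subsingleton _ _ (HUext F (n + 1) U).toEquiv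
    (subsingleton_of_class (freeY J U) P (fun G hG => ⟨(hP G hG).1, fun g => ?_⟩) F hF n)
  obtain ⟨s, hs⟩ := (hP G hG).2 (homFreeY _ U g)
  obtain ⟨g', rfl⟩ := (homFreeY _ U).surjective s
  exact ⟨g', (homFreeY _ U).injective ((homFreeY_comp U g' _).trans hs)⟩

lemma subsingleton_HU_of_injective (I : Sheaf J AddCommGrpCat.{u}) [Injective I] (n : ℕ) (U : C) :
    Subsingleton (CohSite.HU I (n + 1) U) :=
  @Equiv.subsingleton _ _ (HUext I (n + 1) U).toEquiv (Ext.subsingleton_of_injective _ _ _)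

/-- Every class of positive degree dies on the members of a covering sieve. -/
theorem kill_class (F : Sheaf J AddCommGrpCat.{u}) (U : C) (n : ℕ)
    (ξ : Ext.{u} (freeY J U) F (n + 1)) :
    ∃ S ∈ J U, ∀ ⦃V : C⦄ (f : V ⟶ U), S f →
      (Ext.mk₀ (freeYMap J f)).comp ξ (zero_add _) = 0 := by
  induction n generalizing F with
  | zero =>
    obtain ⟨y, rfl⟩ := extClass_surjective (injSES_shortExact F) 0
      (Ext.subsingleton_of_injective _ _ _) ξ
    obtain ⟨g, rfl⟩ := (Ext.mk₀_bijective _ _).2 y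
    refine ⟨_, imageSieve_mem_of_epi (injSES F).g (homFreeY _ U g), fun V f hf => ?_⟩
    obtain ⟨t, ht⟩ := hf
    obtain ⟨g', rfl⟩ := (homFreeY _ V).surjective t
    have : freeYMap J f ≫ g = g' ≫ (injSES F).g :=
      (homFreeY _ V).injective (by rw [homFreeY_map, homFreeY_comp]; exact ht.symm)
    rw [← Ext.comp_assoc_of_second_deg_zero, Ext.mk₀_comp_mk₀, this, ← Ext.mk₀_comp_mk₀,
      Ext.comp_assoc_of_second_deg_zero, (injSES_shortExact F).comp_extClass, Ext.comp_zero]
  | succ n ih =>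
    obtain ⟨y, rfl⟩ := extClass_surjective (injSES_shortExact F) (n + 1)
      (Ext.subsingleton_of_injective _ _ _) ξ
    obtain ⟨S, hS, h⟩ := ih _ y
    refine ⟨S, hS, fun V f hf => ?_⟩
    rw [← Ext.comp_assoc (Ext.mk₀ (freeYMap J f)) y _ (zero_add (n + 1)) rfl (by omega), h f hf,
      Ext.zero_comp]

theorem exists_cover_res_eq_zero (F : Sheaf J AddCommGrpCat.{u}) (U : C) (n : ℕ)
    (ξ : CohSite.HU F (n + 1) U) :
    ∃ S ∈ J U, ∀ ⦃V : C⦄ (f : V ⟶ U), S f → CohSite.res F (n + 1) f ξ = 0 := by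
  obtain ⟨S, hS, h⟩ := kill_class F U n (HUext F (n + 1) U ξ)
  refine ⟨S, hS, fun V f hf => (HUext F (n + 1) V).injective ?_⟩
  rw [res_eq, h f hf]
  rfl

lemma isZero_sheafify_of_res_locally_zero (P : Cᵒᵖ ⥤ AddCommGrpCat.{u})
    (h : ∀ (U : C) (x : P.obj (op U)),
      ∃ S ∈ J U, ∀ ⦃V : C⦄ (f : V ⟶ U), S f → P.map f.op x = 0) :
    IsZero ((presheafToSheaf J AddCommGrpCat.{u}).obj P) := by
  rw [IsZero.iff_id_eq_zero]
  apply Sheaf.hom_ext
  refine sheafify_hom_ext J _ _ ((presheafToSheaf J AddCommGrpCat.{u}).obj P).property ?_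
  ext U x
  obtain ⟨S, hS, hx⟩ := h U.unop x
  refine (((isSheaf_iff_isSheaf_of_type J _).1
    (((Presheaf.isSheaf_iff_isSheaf_forget J _ (forget AddCommGrpCat.{u}))).1
      ((presheafToSheaf J AddCommGrpCat.{u}).obj P).property)).isSeparated S hS).ext ?_
  intro V f hf
  have := ConcreteCategory.congr_hom ((toSheafify J P).naturality f.op) x
  rw [ConcreteCategory.comp_apply, ConcreteCategory.comp_apply, hx f hf, map_zero] at this
  exact this.symm.trans (map_zero (((presheafToSheaf J AddCommGrpCat.{u}).obj P).obj.map f.op).hom).symm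

end GrothLib.SheafCoh
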