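import Groth.Agent.Lib.SheafCoh.TopPush
import Groth.Agent.Lib.SheafCoh.Acyclic
import Mathlib.Topology.Sheaves.SheafCondition.Sites

/-!
# Higher direct images along closed embeddings vanish
-/

universe u

open CategoryTheory Limits Opposite TopologicalSpace

namespace GrothLib.SheafCoh

variable {X Y : TopCat.{u}}

theorem subsingleton_HU_bot (F : CohTop.Ab X) (n : ℕ) :
    Subsingleton (CohTop.HU F (n + 1) (⊥ : Opens X)) :=
  subsingleton_HU_of_class (J := Opens.grothendieckTopology X) (⊥ : Opens X) (fun _ => True)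
    (fun G _ => by
      refine ⟨trivial, fun s => ?_⟩
      have hz := (TopCat.Sheaf.isTerminalOfEmpty
        (cokernel (Injective.ι G) : TopCat.Sheaf AddCommGrpCat.{u} X)).isZero
      have := AddCommGrpCat.subsingleton_of_isZero hz
      exact ⟨0, this.elim _ _⟩) F trivial n

theorem isZero_Rpush_of_isClosedEmbedding (f : X ⟶ Y) (hf : Topology.IsClosedEmbedding f)
    (F : CohTop.Ab X) (q : ℕ) : IsZero ((CohTop.Rpush f (q + 1)).obj F) := by
  refine IsZero.of_iso ?_ (topRpushIso f F (q + 1))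
  refine isZero_sheafify_of_res_locally_zero _ fun V ξ => ?_
  let P : (Opens Y)ᵒᵖ ⥤ AddCommGrpCat.{u} :=
    (Opens.map f).op ⋙ Sheaf.cohomologyPresheaf.{u} F (q + 1)
  let S : Sieve V :=
    { arrows := fun W g => P.map g.op ξ = 0
      downward_closed := fun {W W'} g hg h => by
        rw [op_comp, P.map_comp, ConcreteCategory.comp_apply, hg, map_zero] }
  refine ⟨S, fun y hy => ?_, fun W g hg => hg⟩
  by_cases hyr : y ∈ Set.range f
  · obtain ⟨x, rfl⟩ := hyr
    obtain ⟨T, hT, hzero⟩ :=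
      exists_cover_res_eq_zero (J := Opens.grothendieckTopology X) F ((Opens.map f).obj V) q ξ
    obtain ⟨W, i, hW, hxW⟩ := hT x hy
    obtain ⟨W', hW'o, hW'⟩ := hf.isInducing.isOpen_iff.1 W.isOpen
    refine ⟨V ⊓ ⟨W', hW'o⟩, homOfLE inf_le_left, ?_, hy, (Set.ext_iff.1 hW' x).2 hxW⟩
    have hle : (Opens.map f).obj (V ⊓ ⟨W', hW'o⟩) ≤ W := fun z hz => (Set.ext_iff.1 hW' z).1 hz.2
    have h0 := hzero _ (T.downward_closed hW (homOfLE hle))
    exact h0
  · let W : Opens Y := ⟨(Set.range f)ᶜ, hf.isClosed_range.isOpen_compl⟩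
    refine ⟨V ⊓ W, homOfLE inf_le_left, ?_, hy, hyr⟩
    have hbot : (Opens.map f).obj (V ⊓ W) = ⊥ :=
      Opens.ext (Set.eq_empty_iff_forall_notMem.2 fun z hz => hz.2 ⟨z, rfl⟩)
    have : Subsingleton (CohTop.HU F (q + 1) ((Opens.map f).obj (V ⊓ W))) := by
      rw [hbot]; exact subsingleton_HU_bot F q
    exact this.elim _ _

end GrothLib.SheafCoh
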