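import Mathlib.CategoryTheory.Abelian.RightDerived
import Mathlib.Algebra.Homology.SingleHomology

/-!
# Pushing an injective resolution through a functor with vanishing higher derived functors
-/

universe v u v' u'

open CategoryTheory Limits

namespace GrothLib.SheafCoh

variable {A : Type u} [Category.{v} A] [Abelian A] [HasInjectiveResolutions A]
  {B : Type u'} [Category.{v'} B] [Abelian B] (F : A ⥤ B) [F.Additive] [PreservesFiniteLimits F]

omit [HasInjectiveResolutions A] [PreservesFiniteLimits F] in
lemma map_ι_comp_d {X : A} (P : InjectiveResolution X) :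
    F.map (P.ι.f 0) ≫ ((F.mapHomologicalComplex _).obj P.cocomplex).d 0 1 = 0 := by
  refine (F.map_comp _ _).symm.trans ?_
  rw [P.ι_f_zero_comp_complex_d]
  exact F.map_zero _ _

/-- An injective resolution of `X` gives one of `F X`. -/
noncomputable def mapInjectiveResolution {X : A} (P : InjectiveResolution X)
    (hF : ∀ (J : A), Injective J → Injective (F.obj J))
    (h : ∀ n : ℕ, IsZero ((F.rightDerived (n + 1)).obj X)) : InjectiveResolution (F.obj X) where
  cocomplex := (F.mapHomologicalComplex _).obj P.cocomplex
  injective n := hF _ (P.injective n)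
  ι := (CochainComplex.fromSingle₀Equiv ((F.mapHomologicalComplex _).obj P.cocomplex) (F.obj X)).symm
    ⟨F.map (P.ι.f 0), map_ι_comp_d F P⟩
  quasiIso := by
    rw [quasiIso_iff]
    intro n
    cases n with
    | zero =>
      set φ := (CochainComplex.fromSingle₀Equiv ((F.mapHomologicalComplex _).obj P.cocomplex) (F.obj X)).symm
        ⟨F.map (P.ι.f 0), map_ι_comp_d F P⟩ with hφ
      rw [quasiIsoAt_iff_isIso_homologyMap]
      have h1 : IsIso (HomologicalComplex.cyclesMap φ 0) := by
        have h2 : (HomologicalComplex.singleObjCyclesSelfIso (ComplexShape.up ℕ) 0 (F.obj X)).inv ≫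
            HomologicalComplex.cyclesMap φ 0 = P.toRightDerivedZero' F := by
          rw [← cancel_mono (HomologicalComplex.iCycles _ _), InjectiveResolution.toRightDerivedZero'_comp_iCycles,
            Category.assoc, HomologicalComplex.cyclesMap_i]
          simp only [φ, CochainComplex.fromSingle₀Equiv, Equiv.coe_fn_symm_mk]
          erw [HomologicalComplex.singleObjCyclesSelfIso_inv_iCycles_assoc,
            HomologicalComplex.mkHomFromSingle_f]
          exact Iso.inv_hom_id_assoc _ _
        have : IsIso ((HomologicalComplex.singleObjCyclesSelfIso (ComplexShape.up ℕ) 0 (F.obj X)).inv ≫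
            HomologicalComplex.cyclesMap φ 0) := by
          rw [h2]
          infer_instance
        exact @IsIso.of_isIso_comp_left _ _ _ _ _ _ (HomologicalComplex.cyclesMap φ 0) _ this
      have h3 := HomologicalComplex.homologyπ_naturality φ 0
      have : IsIso (((CochainComplex.single₀ B).obj (F.obj X)).homologyπ 0 ≫ HomologicalComplex.homologyMap φ 0) := by
        rw [h3]
        infer_instance
      exact IsIso.of_isIso_comp_left (((CochainComplex.single₀ B).obj (F.obj X)).homologyπ 0) _
    | succ n =>
      rw [quasiIsoAt_iff_exactAt _ _ (CochainComplex.exactAt_succ_single_obj _ _),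
        HomologicalComplex.exactAt_iff_isZero_homology]
      exact (h n).of_iso (P.isoRightDerivedObj F (n + 1)).symm

lemma mapInjectiveResolution_cocomplex {X : A} (P : InjectiveResolution X)
    (hF : ∀ (J : A), Injective J → Injective (F.obj J))
    (h : ∀ n : ℕ, IsZero ((F.rightDerived (n + 1)).obj X)) :
    (mapInjectiveResolution F P hF h).cocomplex = (F.mapHomologicalComplex _).obj P.cocomplex := rfl

end GrothLib.SheafCoh
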