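import Groth.Agent.Lib.SheafCoh.DerivedComp
import Groth.Agent.Lib.SheafCoh.AcyclicRes
import Groth.Agent.Lib.SheafCoh.PushInj
import Groth.Agent.Lib.SheafCoh.ClosedEmb

/-!
# The degenerate Leray comparison
-/

universe u

open CategoryTheory Limits Opposite TopologicalSpace

namespace GrothLib.SheafCoh

variable {C : Type u} [SmallCategory C] {J : GrothendieckTopology C}
  {D : Type u} [SmallCategory D] (K : GrothendieckTopology D)

/-- If `R^q u_* F = 0` for `q > 0` and `u_*` preserves injectives, then `H^n(V, u_* F) = H^n(u V, F)`. -/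
noncomputable def cohomologyPresheafPushIso (u : D ⥤ C) [u.IsContinuous K J]
    [PreservesFiniteLimits (CohSite.push J K u)]
    (hinj : ∀ I : Sheaf J AddCommGrpCat.{u}, Injective I → Injective ((CohSite.push J K u).obj I))
    (F : Sheaf J AddCommGrpCat.{u})
    (h : ∀ q : ℕ, IsZero ((CohSite.Rpush J K u (q + 1)).obj F)) (n : ℕ) :
    Sheaf.cohomologyPresheaf.{u} ((CohSite.push J K u).obj F) n ≅
      u.op ⋙ Sheaf.cohomologyPresheaf.{u} F n :=
  letI : (((Functor.whiskeringLeft Dᵒᵖ Cᵒᵖ AddCommGrpCat.{u}).obj u.op)).PreservesHomology :=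
    Functor.preservesHomologyOfExact _
  (rightDerivedSheafToPresheafIso _ n).symm ≪≫
    (mapInjectiveResolution (CohSite.push J K u) (injectiveResolution F) hinj h).isoRightDerivedObj
      (sheafToPresheaf K AddCommGrpCat.{u}) n ≪≫
    (HomologicalComplex.homologyFunctor _ _ n).mapIso
      (((Functor.mapHomologicalComplexCompIso
          (Iso.refl (CohSite.push J K u ⋙ sheafToPresheaf K AddCommGrpCat.{u}))
          (ComplexShape.up ℕ)) ≪≫
        (Functor.mapHomologicalComplexCompIso
          (Iso.refl (sheafToPresheaf J AddCommGrpCat.{u} ⋙ (Functor.whiskeringLeft _ _ _).obj u.op))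
          (ComplexShape.up ℕ)).symm).app (injectiveResolution F).cocomplex) ≪≫
    mapHCHomologyIso ((Functor.whiskeringLeft _ _ _).obj u.op) _ n ≪≫
    ((Functor.whiskeringLeft _ _ _).obj u.op).mapIso
      ((injectiveResolution F).isoRightDerivedObj (sheafToPresheaf J AddCommGrpCat.{u}) n).symm ≪≫
    ((Functor.whiskeringLeft _ _ _).obj u.op).mapIso (rightDerivedSheafToPresheafIso F n)

variable {X Y : TopCat.{u}}

theorem nonempty_H_addEquiv_push (f : X ⟶ Y) (F : CohTop.Ab X)
    (h : ∀ q : ℕ, IsZero ((CohTop.Rpush f (q + 1)).obj F)) (p : ℕ) :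
    Nonempty (CohTop.H F p ≃+ CohTop.H ((CohTop.push f).obj F) p) := by
  have : PreservesFiniteLimits (CohSite.push (Opens.grothendieckTopology X)
      (Opens.grothendieckTopology Y) (Opens.map f)) :=
    have := (TopCat.Sheaf.pullbackPushforwardAdjunction AddCommGrpCat.{u} f).rightAdjoint_preservesLimits (F := CohTop.pull f) (G := CohTop.push f)
    inferInstanceAs (PreservesFiniteLimits (CohTop.push f))
  let e := cohomologyPresheafPushIso (J := Opens.grothendieckTopology X)
    (Opens.grothendieckTopology Y) (Opens.map f) (fun I _ => injective_push f I) F h p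
  exact ⟨(HEquivHU F p (isTerminalTop (α := Opens X))).trans
    (((e.app (op ⊤)).addCommGroupIsoToAddEquiv).symm.trans
      (HEquivHU ((CohTop.push f).obj F) p (isTerminalTop (α := Opens Y))).symm)⟩

end GrothLib.SheafCoh
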