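import Groth.Agent.Lib.SheafCoh.Instances
import Mathlib.CategoryTheory.Functor.Flat
import Mathlib.CategoryTheory.Limits.Final
import Mathlib.CategoryTheory.Sites.Pullback
import Mathlib.CategoryTheory.Sites.Over
import Mathlib.Algebra.Category.Grp.AB
import Mathlib.CategoryTheory.Preadditive.Injective.Basic

/-!
# Extension by zero from a slice is exact; restriction to a slice preserves injectives
-/

universe u

open CategoryTheory Limits Opposite

namespace GrothLib.SheafCoh

variable {C : Type u} [SmallCategory C] (U : C)

/-- The maps to `U` inside the costructured arrows of `(Over.forget U).op`. -/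
noncomputable def overArrows (W : Cᵒᵖ) :
    Discrete (W.unop ⟶ U) ⥤ CostructuredArrow (Over.forget U).op W :=
  Discrete.functor fun f => CostructuredArrow.mk (Y := op (Over.mk f)) (𝟙 W)

theorem final_overArrows (W : Cᵒᵖ) : (overArrows U W).Final := by
  refine ⟨fun d => ?_⟩
  let g : W.unop ⟶ d.left.unop.left := d.hom.unop
  let f₀ : W.unop ⟶ U := g ≫ d.left.unop.hom
  let h₀ : d ⟶ (overArrows U W).obj ⟨f₀⟩ :=
    CostructuredArrow.homMk (Over.homMk g : Over.mk f₀ ⟶ d.left.unop).op (by
      change g.op ≫ 𝟙 W = d.hom
      rw [Category.comp_id]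
      rfl)
  have hne : Nonempty (StructuredArrow d (overArrows U W)) := ⟨StructuredArrow.mk h₀⟩
  refine zigzag_isConnected fun a b => ?_
  suffices a = b by subst this; exact Relation.ReflTransGen.refl
  have key : ∀ a : StructuredArrow d (overArrows U W), a = StructuredArrow.mk h₀ := by
    intro a
    obtain ⟨⟨⟩, ⟨f⟩, φ⟩ := a
    have hw : φ.left.unop.left = g := by
      have := CostructuredArrow.w φ
      apply_fun Quiver.Hom.unop at this
      simpa [overArrows, g] using this
    have hf : f = f₀ := by
      have := Over.w φ.left.unop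
      rw [hw] at this
      exact this.symm
    subst hf
    have : φ = h₀ := CostructuredArrow.hom_ext _ _ (Quiver.Hom.unop_inj (Over.OverMorphism.ext hw))
    subst this
    rfl
  rw [key a, key b]

/-- Left Kan extension along `Over.forget U` is exact on abelian presheaves. -/
theorem preservesFiniteLimits_lan_forget :
    PreservesFiniteLimits ((Over.forget U).op.lan :
      ((Over U)ᵒᵖ ⥤ AddCommGrpCat.{u}) ⥤ Cᵒᵖ ⥤ AddCommGrpCat.{u}) := by
  refine ⟨fun K _ _ => ?_⟩
  refine preservesLimitsOfShape_of_evaluation _ K fun W => ?_
  have := final_overArrows U W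
  have : HasColimitsOfShape (Discrete (W.unop ⟶ U)) AddCommGrpCat.{u} := inferInstance
  let e : (Over.forget U).op.lan ⋙ (evaluation Cᵒᵖ AddCommGrpCat.{u}).obj W ≅
      (Functor.whiskeringLeft _ _ AddCommGrpCat.{u}).obj
          (overArrows U W ⋙ CostructuredArrow.proj (Over.forget U).op W) ⋙ colim :=
    lanEvaluationIsoColim _ (Over.forget U).op W ≪≫
      Functor.isoWhiskerLeft ((Functor.whiskeringLeft _ _ AddCommGrpCat.{u}).obj
        (CostructuredArrow.proj (Over.forget U).op W))
        (Functor.Final.colimIso (E := AddCommGrpCat.{u}) (overArrows U W)).symm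
  exact preservesLimitsOfShape_of_natIso e.symm

theorem injective_overForget_comp (P : Cᵒᵖ ⥤ AddCommGrpCat.{u}) [hP : Injective P] :
    Injective ((Over.forget U).op ⋙ P) :=
  have := preservesFiniteLimits_lan_forget U
  have : ((Over.forget U).op.lan :
      ((Over U)ᵒᵖ ⥤ AddCommGrpCat.{u}) ⥤ _).PreservesMonomorphisms :=
    preservesMonomorphisms_of_preservesLimitsOfShape _
  @Injective.injective_of_adjoint _ _ _ _ _ _ this
    ((Over.forget U).op.lanAdjunction AddCommGrpCat.{u}) P hP

variable (J : GrothendieckTopology C)

/-- Extension by zero of abelian sheaves from a slice is exact. -/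
theorem preservesFiniteLimits_sheafPullback_forget :
    PreservesFiniteLimits ((Over.forget U).sheafPullback AddCommGrpCat.{u} (J.over U) J) :=
  have := preservesFiniteLimits_lan_forget U
  have : PreservesFiniteLimits (Functor.sheafPullbackConstruction.sheafPullback (Over.forget U)
      AddCommGrpCat.{u} (J.over U) J) :=
    have : PreservesFiniteLimits ((Over.forget U).op.lan ⋙ presheafToSheaf J AddCommGrpCat.{u}) :=
      comp_preservesFiniteLimits _ _
    comp_preservesFiniteLimits (sheafToPresheaf _ _) _
  preservesFiniteLimits_of_natIso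
    (Functor.sheafPullbackConstruction.sheafPullbackIso (Over.forget U) AddCommGrpCat.{u} (J.over U) J).symm

theorem injective_over (I : Sheaf J AddCommGrpCat.{u}) [hI : Injective I] :
    Injective (((Over.forget U).sheafPushforwardContinuous AddCommGrpCat.{u} (J.over U) J).obj I) :=
  have := preservesFiniteLimits_sheafPullback_forget U J
  have : ((Over.forget U).sheafPullback AddCommGrpCat.{u} (J.over U) J).PreservesMonomorphisms :=
    preservesMonomorphisms_of_preservesLimitsOfShape _
  @Injective.injective_of_adjoint _ _ _ _ _ _ this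
    ((Over.forget U).sheafAdjunctionContinuous AddCommGrpCat.{u} (J.over U) J) I hI

end GrothLib.SheafCoh
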