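import Groth.Agent.Lib.SheafCoh.Terminal
import Groth.Prelude.Def_CohCx
import Mathlib.CategoryTheory.Sites.Adjunction

/-!
# Totally acyclic sheaves are acyclic on objects
-/

universe u

open CategoryTheory Limits Opposite Abelian

namespace GrothLib.SheafCoh

variable {C : Type u} [SmallCategory C] {J : GrothendieckTopology C}

/-- The free sheaf on the sheafified representable is the free sheaf on the representable. -/
noncomputable def freeSheafifiedYonedaIso (U : C) :
    (presheafToSheaf J AddCommGrpCat.{u}).obj
        (((presheafToSheaf J (Type u)).obj (yoneda.obj U)).obj ⋙ AddCommGrpCat.free.{u}) ≅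
      freeY J U :=
  (presheafToSheafCompComposeAndSheafifyIso J AddCommGrpCat.free.{u}).app (yoneda.obj U)

theorem subsingleton_HU_of_totallyAcyclic (F : Sheaf J AddCommGrpCat.{u})
    (hF : CohCx.IsTotallyAcyclic F) (U : C) (p : ℕ) :
    Subsingleton (CohSite.HU F (p + 1) U) :=
  have : Subsingleton (Ext.{u}
      ((presheafToSheaf J AddCommGrpCat.{u}).obj
        (((presheafToSheaf J (Type u)).obj (yoneda.obj U)).obj ⋙ AddCommGrpCat.free.{u})) F (p + 1)) :=
    hF _ p
  ((HUext F (p + 1) U).trans (extPrecompIso (freeSheafifiedYonedaIso U) F (p + 1))).toEquiv.subsingleton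

end GrothLib.SheafCoh
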