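import Groth.Agent.Lib.SheafCoh.PshExt
import Groth.Agent.Lib.SheafCoh.TotallyAcyclic
import Groth.Agent.Lib.SheafCoh.OverLan
import Mathlib.CategoryTheory.Sites.CoverLifting
import Mathlib.CategoryTheory.Adjunction.Additive

/-!
# Direct images along continuous functors and acyclicity
-/

universe u

open CategoryTheory Limits Opposite Abelian

namespace GrothLib.SheafCoh

variable {C : Type u} [SmallCategory C] {J : GrothendieckTopology C}
  {D : Type u} [SmallCategory D] (K : GrothendieckTopology D) (u : D ⥤ C) [u.IsContinuous K J]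

theorem preservesMono_sheafPullback_of_flat [RepresentablyFlat u] :
    (u.sheafPullback AddCommGrpCat.{u} K J).PreservesMonomorphisms :=
  have : PreservesFiniteLimits (u.op.lan : (_ ⥤ Cᵒᵖ ⥤ AddCommGrpCat.{u})) :=
    lan_preservesFiniteLimits_of_flat _ _
  have : PreservesFiniteLimits (u.sheafPullback AddCommGrpCat.{u} K J) :=
    Functor.sheafPullbackConstruction.preservesFiniteLimits u AddCommGrpCat.{u} K J
  preservesMonomorphisms_of_preservesLimitsOfShape _

theorem injective_push_of_preservesMono
    (h : (u.sheafPullback AddCommGrpCat.{u} K J).PreservesMonomorphisms)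
    (I : Sheaf J AddCommGrpCat.{u}) [hI : Injective I] : Injective ((CohSite.push J K u).obj I) :=
  @Injective.injective_of_adjoint _ _ _ _ _ _ h
    (u.sheafAdjunctionContinuous AddCommGrpCat.{u} K J) I hI

theorem shortExact_push {S : ShortComplex (Sheaf J AddCommGrpCat.{u})} (hS : S.ShortExact)
    (hsurj : ∀ V : D, Function.Surjective (S.g.hom.app (op (u.obj V)))) :
    (S.map (CohSite.push J K u)).ShortExact := by
  have : PreservesLimitsOfSize.{0, 0} (CohSite.push J K u) :=
    (u.sheafAdjunctionContinuous AddCommGrpCat.{u} K J).rightAdjoint_preservesLimits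
      (G := CohSite.push J K u)
  have := hS.mono_f
  refine { exact := hS.exact.map_of_mono_of_preservesKernel _ inferInstance inferInstance
           mono_f := inferInstanceAs (Mono ((CohSite.push J K u).map S.f))
           epi_g := ?_ }
  have : ∀ W, Epi ((((CohSite.push J K u).map S.g).hom).app W) := fun W =>
    (AddCommGrpCat.epi_iff_surjective _).2 (hsurj W.unop)
  have h2 : Epi (((sheafToPresheaf K AddCommGrpCat.{u})).map ((CohSite.push J K u).map S.g)) :=
    @NatTrans.epi_of_epi_app _ _ _ _ _ _ ((CohSite.push J K u).map S.g).hom this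
  exact (sheafToPresheaf K AddCommGrpCat.{u}).epi_of_epi_map h2

variable (hinj : ∀ I : Sheaf J AddCommGrpCat.{u}, Injective I → Injective ((CohSite.push J K u).obj I))

include hinj in
/-- `Ext` into a direct image of a sheaf acyclic on objects. -/
theorem nonempty_ext_push_addEquiv (A : Sheaf J AddCommGrpCat.{u}) (B : Sheaf K AddCommGrpCat.{u})
    (e : ∀ F, (A ⟶ F) ≃+ (B ⟶ (CohSite.push J K u).obj F))
    (he : ∀ {F F' : Sheaf J AddCommGrpCat.{u}} (φ : F ⟶ F') (a : A ⟶ F),
      e F' (a ≫ φ) = e F a ≫ (CohSite.push J K u).map φ)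
    (F : Sheaf J AddCommGrpCat.{u}) (hF : AcycObj F) (n : ℕ) :
    Nonempty (Ext.{u} A F n ≃+ Ext.{u} B ((CohSite.push J K u).obj F) n) := by
  obtain ⟨c⟩ := DimShift.nonempty_comparison (CohSite.push J K u) A B (fun G => AcycObj G)
    (fun I hI => @acycObj_of_injective _ _ _ I hI)
    (fun S hS hI h₁ => ⟨h₁.quotient hS (@acycObj_of_injective _ _ _ _ hI),
      shortExact_push K u hS fun V => h₁.surjective hS (u.obj V)⟩)
    (fun I hI m => have := hinj I hI; Ext.subsingleton_of_injective _ _ _)
    e he n
  exact ⟨c.equiv F hF⟩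

/-- Maps out of free sheaves into a direct image. -/
noncomputable def homFreeYPush (V : D) (F : Sheaf J AddCommGrpCat.{u}) :
    (freeY J (u.obj V) ⟶ F) ≃+ (freeY K V ⟶ (CohSite.push J K u).obj F) :=
  (homFreeY F (u.obj V)).trans (homFreeY ((CohSite.push J K u).obj F) V).symm

lemma homFreeYPush_comp (V : D) {F F' : Sheaf J AddCommGrpCat.{u}} (φ : F ⟶ F')
    (a : freeY J (u.obj V) ⟶ F) :
    homFreeYPush K u V F' (a ≫ φ) = homFreeYPush K u V F a ≫ (CohSite.push J K u).map φ := by
  apply (homFreeY ((CohSite.push J K u).obj F') V).injective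
  rw [homFreeY_comp]
  simp only [homFreeYPush, AddEquiv.trans_apply]
  erw [AddEquiv.apply_symm_apply, AddEquiv.apply_symm_apply]
  exact homFreeY_comp _ a φ

include hinj in
theorem acycObj_push (F : Sheaf J AddCommGrpCat.{u}) (hF : AcycObj F) :
    AcycObj ((CohSite.push J K u).obj F) := fun V n => by
  obtain ⟨e⟩ := nonempty_ext_push_addEquiv K u hinj _ _ (homFreeYPush K u V)
    (fun φ a => homFreeYPush_comp K u V φ a) F hF (n + 1)
  exact @Equiv.subsingleton _ _ e.symm.toEquiv (hF (u.obj V) n)

/-- Inverse image of a free abelian sheaf. -/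
noncomputable def pullbackFreeIso :
    Sheaf.composeAndSheafify K AddCommGrpCat.free.{u} ⋙ u.sheafPullback AddCommGrpCat.{u} K J ≅
      u.sheafPullback (Type u) K J ⋙ Sheaf.composeAndSheafify J AddCommGrpCat.free.{u} :=
  Adjunction.leftAdjointUniq
    ((Sheaf.adjunction K AddCommGrpCat.adj.{u}).comp
      (u.sheafAdjunctionContinuous AddCommGrpCat.{u} K J))
    (((u.sheafAdjunctionContinuous (Type u) K J).comp
      (Sheaf.adjunction J AddCommGrpCat.adj.{u})).ofNatIsoRight
      (NatIso.ofComponents fun N => Iso.refl _))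

/-- Direct image preserves total acyclicity when inverse image preserves monomorphisms. -/
theorem isTotallyAcyclic_push (h : (u.sheafPullback AddCommGrpCat.{u} K J).PreservesMonomorphisms)
    (F : Sheaf J AddCommGrpCat.{u}) (hF : CohCx.IsTotallyAcyclic F) :
    CohCx.IsTotallyAcyclic ((CohSite.push J K u).obj F) := by
  intro S p
  have hacyc : AcycObj F := (acycObj_iff F).2 fun X n => subsingleton_HU_of_totallyAcyclic F hF X n
  let Z := (presheafToSheaf K AddCommGrpCat.{u}).obj (S.obj ⋙ AddCommGrpCat.free.{u})
  let adj := u.sheafAdjunctionContinuous AddCommGrpCat.{u} K J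
  have : (u.sheafPullback AddCommGrpCat.{u} K J).IsLeftAdjoint := adj.isLeftAdjoint
  have : (CohSite.push J K u).Additive := inferInstance
  have : (u.sheafPullback AddCommGrpCat.{u} K J).Additive := adj.left_adjoint_additive
  obtain ⟨e⟩ := nonempty_ext_push_addEquiv K u (fun I hI => @injective_push_of_preservesMono _ _ _ _ _ K u _ h I hI)
    ((u.sheafPullback AddCommGrpCat.{u} K J).obj Z) Z (fun G => adj.homAddEquiv Z G)
    (fun φ a => adj.homEquiv_naturality_right a φ) F hacyc (p + 1)
  exact @Equiv.subsingleton _ _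
    (e.symm.trans (extPrecompIso ((pullbackFreeIso K u).app S) F (p + 1)).symm).toEquiv
    (hF _ p)

section Cocontinuous

variable [u.IsCocontinuous K J]

include hinj in
/-- For `u` continuous and cocontinuous, cohomology of a direct image. -/
theorem nonempty_HU_push_addEquiv (F : Sheaf J AddCommGrpCat.{u}) (V : D) (n : ℕ) :
    Nonempty (CohSite.HU ((CohSite.push J K u).obj F) n V ≃+ CohSite.HU F n (u.obj V)) := by
  let G := CohSite.push J K u
  have : PreservesColimitsOfSize.{0, 0} G :=
    (u.sheafAdjunctionCocontinuous AddCommGrpCat.{u} K J).leftAdjoint_preservesColimits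
      (F := G) (G := u.sheafPushforwardCocontinuous AddCommGrpCat.{u} K J)
  have : PreservesLimitsOfSize.{0, 0} G :=
    (u.sheafAdjunctionContinuous AddCommGrpCat.{u} K J).rightAdjoint_preservesLimits (G := G)
  have : G.PreservesHomology := Functor.preservesHomologyOfExact G
  obtain ⟨c⟩ := DimShift.nonempty_comparison G (freeY J (u.obj V)) (freeY K V) (fun _ => True)
    (fun _ _ => trivial) (fun S hS _ _ => ⟨trivial, hS.map_of_exact G⟩)
    (fun I hI m => have := hinj I hI; Ext.subsingleton_of_injective _ _ _)
    (homFreeYPush K u V) (fun φ a => homFreeYPush_comp K u V φ a) n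
  exact ⟨(HUext _ n V).trans ((c.equiv F trivial).symm.trans (HUext F n (u.obj V)).symm)⟩

end Cocontinuous

end GrothLib.SheafCoh
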