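import Groth.Agent.Lib.Cohom.DimShift
import Groth.Agent.Lib.SheafCoh.Acyclic
import Groth.Agent.Lib.SheafCoh.Shift
import Groth.Agent.Lib.Cech.Opens
import Groth.Prelude.Def_CohCx
import Mathlib.CategoryTheory.Adjunction.Additive
import Mathlib.CategoryTheory.Abelian.GrothendieckAxioms.FunctorCategory
import Mathlib.CategoryTheory.Sites.Adjunction
import Mathlib.CategoryTheory.Generator.Presheaf
import Groth.Agent.Lib.SheafCoh.Terminal

/-!
# `Ext` of sheaves into a sheaf acyclic on objects is `Ext` of presheaves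
-/

universe u

open CategoryTheory Limits Opposite Abelian

namespace GrothLib.SheafCoh

variable {C : Type u} [SmallCategory C]

theorem isGrothendieckAbelianPsh : IsGrothendieckAbelian.{u} (Cᵒᵖ ⥤ AddCommGrpCat.{u}) :=
  { locallySmall := ⟨fun _ _ => inferInstance⟩
    ab5OfSize := ⟨fun _ _ _ => inferInstance⟩ }

attribute [scoped instance 10000] isGrothendieckAbelianPsh

theorem hasExtPsh : HasExt.{u} (Cᵒᵖ ⥤ AddCommGrpCat.{u}) := inferInstance

attribute [scoped instance 10000] hasExtPsh

theorem enoughInjectivesPsh : EnoughInjectives (Cᵒᵖ ⥤ AddCommGrpCat.{u}) := inferInstance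

attribute [scoped instance 10000] enoughInjectivesPsh

variable {J : GrothendieckTopology C}

/-- Acyclic on all objects of the site. -/
def AcycObj (F : Sheaf J AddCommGrpCat.{u}) : Prop :=
  ∀ (X : C) (n : ℕ), Subsingleton (Ext.{u} (freeY J X) F (n + 1))

lemma acycObj_iff (F : Sheaf J AddCommGrpCat.{u}) :
    AcycObj F ↔ ∀ (X : C) (n : ℕ), Subsingleton (CohSite.HU F (n + 1) X) :=
  forall_congr' fun X => forall_congr' fun n => (HUext F (n + 1) X).toEquiv.subsingleton_congr.symm

lemma acycObj_of_injective (I : Sheaf J AddCommGrpCat.{u}) [Injective I] : AcycObj I :=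
  fun _ _ => Ext.subsingleton_of_injective _ _ _

lemma AcycObj.surjective {S : ShortComplex (Sheaf J AddCommGrpCat.{u})} (hS : S.ShortExact)
    (h : AcycObj S.X₁) (X : C) : Function.Surjective (S.g.hom.app (op X)) := by
  intro s
  obtain ⟨g', hg'⟩ := surjective_of_subsingleton hS (h X 0) ((homFreeY _ _).symm s)
  refine ⟨homFreeY _ _ g', ?_⟩
  rw [← homFreeY_comp, hg', AddEquiv.apply_symm_apply]

lemma AcycObj.quotient {S : ShortComplex (Sheaf J AddCommGrpCat.{u})} (hS : S.ShortExact)
    (h : AcycObj S.X₁) (h₂ : AcycObj S.X₂) : AcycObj S.X₃ := fun X n =>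
  @Equiv.subsingleton _ _ (extShift hS (n + 1) (h₂ X n) (h₂ X (n + 1))).toEquiv (h X (n + 1))

lemma shortExact_sheafToPresheaf_of_surjective {S : ShortComplex (Sheaf J AddCommGrpCat.{u})}
    (hS : S.ShortExact) (h : ∀ X : C, Function.Surjective (S.g.hom.app (op X))) :
    (S.map (sheafToPresheaf J AddCommGrpCat.{u})).ShortExact := by
  have := hS.mono_f
  refine { exact := hS.exact.map_of_mono_of_preservesKernel _ inferInstance inferInstance
           mono_f := inferInstanceAs (Mono ((sheafToPresheaf J AddCommGrpCat.{u}).map S.f))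
           epi_g := ?_ }
  have : ∀ W, Epi (((sheafToPresheaf J AddCommGrpCat.{u}).map S.g).app W) := fun W =>
    (AddCommGrpCat.epi_iff_surjective _).2 (h W.unop)
  exact @NatTrans.epi_of_epi_app _ _ _ _ _ _ ((sheafToPresheaf J AddCommGrpCat.{u}).map S.g) this

/-- `Hom(aP, F) = Hom(P, F)`. -/
noncomputable def sheafifyHomEquiv (P : Cᵒᵖ ⥤ AddCommGrpCat.{u}) (F : Sheaf J AddCommGrpCat.{u}) :
    ((presheafToSheaf J AddCommGrpCat.{u}).obj P ⟶ F) ≃+ (P ⟶ F.obj) :=
  (sheafificationAdjunction J AddCommGrpCat.{u}).homAddEquiv P F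

/-- `Ext` out of a sheafification into a sheaf acyclic on objects is computed in presheaves. -/
theorem nonempty_ext_sheafify_addEquiv (P : Cᵒᵖ ⥤ AddCommGrpCat.{u})
    (F : Sheaf J AddCommGrpCat.{u}) (hF : AcycObj F) (n : ℕ) :
    Nonempty (Ext.{u} ((presheafToSheaf J AddCommGrpCat.{u}).obj P) F n ≃+ Ext.{u} P F.obj n) := by
  obtain ⟨c⟩ := DimShift.nonempty_comparison (sheafToPresheaf J AddCommGrpCat.{u})
    ((presheafToSheaf J AddCommGrpCat.{u}).obj P) P (fun G => AcycObj G)
    (fun I hI => @acycObj_of_injective _ _ _ I hI)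
    (fun S hS hI h₁ => ⟨h₁.quotient hS (@acycObj_of_injective _ _ _ _ hI),
      shortExact_sheafToPresheaf_of_surjective hS fun X => h₁.surjective hS X⟩)
    (fun I hI m =>
      have : Injective ((sheafToPresheaf J AddCommGrpCat.{u}).obj I) := Cech.injective_presheaf I (hI := hI)
      Ext.subsingleton_of_injective _ _ _)
    (sheafifyHomEquiv P)
    (fun φ a => (sheafificationAdjunction J AddCommGrpCat.{u}).homEquiv_naturality_right a φ) n
  exact ⟨c.equiv F hF⟩

theorem acycObj_bot (F : Sheaf (⊥ : GrothendieckTopology C) AddCommGrpCat.{u}) : AcycObj F := by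
  rw [acycObj_iff]
  intro X n
  refine subsingleton_of_forall_eq 0 fun ξ => ?_
  obtain ⟨S, hS, h⟩ := exists_cover_res_eq_zero F X n ξ
  rw [GrothendieckTopology.bot_covering] at hS
  subst hS
  have h1 := h (𝟙 X) trivial
  apply (HUext F (n + 1) X).injective
  have h2 := congrArg (HUext F (n + 1) X) h1
  rw [res_eq] at h2
  refine Eq.trans ?_ (h2.trans (map_zero _) |>.trans (map_zero _).symm)
  rw [show freeYMap (⊥ : GrothendieckTopology C) (𝟙 X) = 𝟙 _ from (freeYFunctor _).map_id X,
    Ext.mk₀_id_comp]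

/-- Cohomology of a sheaf of sets for the trivial topology is `Ext` of presheaves. -/
theorem nonempty_HK_bot_addEquiv (K : Sheaf (⊥ : GrothendieckTopology C) (Type u))
    (M : Sheaf (⊥ : GrothendieckTopology C) AddCommGrpCat.{u}) (n : ℕ) :
    Nonempty (CohCx.HK K M n ≃+ Ext.{u} (K.obj ⋙ AddCommGrpCat.free.{u}) M.obj n) :=
  nonempty_ext_sheafify_addEquiv _ M (acycObj_bot M) n

/-- The free abelian presheaf on a covering sieve sheafifies to the free sheaf on the object. -/
theorem nonempty_sheafify_sieve_iso {X : C} (R : Sieve X) (hR : R ∈ J X) :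
    Nonempty ((presheafToSheaf J AddCommGrpCat.{u}).obj (R.functor ⋙ AddCommGrpCat.free.{u}) ≅
      freeY J X) := by
  have hW : J.W (Functor.whiskerRight R.functorInclusion AddCommGrpCat.free.{u}) := by
    refine GrothendieckTopology.W_of_preservesSheafification J AddCommGrpCat.free.{u} _ ?_
    exact fun Z hZ => (Function.bijective_iff_existsUnique _).2
      (Presieve.isSheafFor_iff_yonedaSheafCondition.1
        ((isSheaf_iff_isSheaf_of_type J Z).1 hZ R hR))
  have := (J.W_iff _).1 hW
  exact ⟨asIso ((presheafToSheaf J AddCommGrpCat.{u}).map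
    (Functor.whiskerRight R.functorInclusion AddCommGrpCat.free.{u}))⟩

/-- Vanishing on covering sieves, the presheaf criterion for acyclicity. -/
def SieveAcyc (F : Sheaf J AddCommGrpCat.{u}) : Prop :=
  ∀ (X : C) (R : Sieve X), R ∈ J X → ∀ q : ℕ,
    Subsingleton (Ext.{u} (R.functor ⋙ AddCommGrpCat.free.{u}) F.obj (q + 1))

theorem sieveAcyc_of_acycObj (F : Sheaf J AddCommGrpCat.{u}) (hF : AcycObj F) : SieveAcyc F := by
  intro X R hR q
  obtain ⟨e⟩ := nonempty_ext_sheafify_addEquiv (R.functor ⋙ AddCommGrpCat.free.{u}) F hF (q + 1)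
  obtain ⟨i⟩ := nonempty_sheafify_sieve_iso R hR
  exact @Equiv.subsingleton _ _ (e.symm.trans (extPrecompIso i F (q + 1)).symm).toEquiv (hF X q)

theorem sieveAcyc_surjective (F : Sheaf J AddCommGrpCat.{u}) (h : SieveAcyc F) (X : C) :
    Function.Surjective ((cokernel.π (Injective.ι F)).hom.app (op X)) := by
  intro s
  obtain ⟨φ, rfl⟩ := (homFreeY _ X).surjective s
  let S := injSES F
  let m := (sheafToPresheaf J AddCommGrpCat.{u}).map S.f
  have : Mono S.f := inferInstanceAs (Mono (Injective.ι F))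
  have : Mono m := inferInstance
  let T : ShortComplex (Cᵒᵖ ⥤ AddCommGrpCat.{u}) := ShortComplex.mk m (cokernel.π m) (cokernel.condition m)
  have hT : T.ShortExact := { exact := ShortComplex.exact_cokernel _ }
  let κ : cokernel m ⟶ S.X₃.obj := cokernel.desc m ((sheafToPresheaf J AddCommGrpCat.{u}).map S.g)
    ((((sheafToPresheaf J AddCommGrpCat.{u}).map_comp S.f S.g).symm.trans
      (by rw [S.zero, Functor.map_zero])))
  have hκ : Mono κ :=
    (ShortComplex.exact_iff_mono_cokernel_desc (S.map (sheafToPresheaf J AddCommGrpCat.{u}))).1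
      ((injSES_shortExact F).exact.map_of_mono_of_preservesKernel _ inferInstance inferInstance)
  let R : Sieve X := Presheaf.imageSieve S.g.hom (homFreeY _ X φ)
  have hR : R ∈ J X := by
    have : Epi S.g := inferInstanceAs (Epi (cokernel.π _))
    exact imageSieve_mem_of_epi S.g _
  let σ : R.functor ⋙ AddCommGrpCat.free.{u} ⟶ S.X₃.obj :=
    Functor.whiskerRight R.functorInclusion AddCommGrpCat.free.{u} ≫
      toSheafify J (yoneda.obj X ⋙ AddCommGrpCat.free.{u}) ≫ φ.hom
  have hlift : ∀ (W : Cᵒᵖ) (f : R.functor.obj W), ∃ t, κ.app W t =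
      σ.app W (FreeAbelianGroup.of f) := by
    rintro ⟨W⟩ ⟨f, hf⟩
    obtain ⟨t, ht⟩ := hf
    refine ⟨(cokernel.π m).app (op W) t, ?_⟩
    have h1 : (cokernel.π m ≫ κ).app (op W) = S.g.hom.app (op W) := by
      rw [cokernel.π_desc]
      rfl
    refine (ConcreteCategory.congr_hom h1 t).trans (ht.trans ?_)
    refine ((homFreeY_map S.X₃ f φ).symm.trans ?_)
    have h2 := ConcreteCategory.congr_hom (NatTrans.congr_app
      (toSheafify_naturality J (Functor.whiskerRight (yoneda.map f) AddCommGrpCat.free.{u})) (op W))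
      (FreeAbelianGroup.of (𝟙 W))
    refine (congrArg (φ.hom.app (op W)) h2.symm).trans ?_
    change φ.hom.app (op W) ((toSheafify J (yoneda.obj X ⋙ AddCommGrpCat.free.{u})).app (op W)
      (FreeAbelianGroup.of (𝟙 W ≫ f))) = φ.hom.app (op W) _
    rw [Category.id_comp]
    rfl
  let ψ : R.functor ⋙ AddCommGrpCat.free.{u} ⟶ cokernel m :=
    { app := fun W => AddCommGrpCat.ofHom (FreeAbelianGroup.lift fun f => (hlift W f).choose)
      naturality := fun W W' g => by
        refine AddCommGrpCat.hom_ext (FreeAbelianGroup.lift_ext _ _ fun f => ?_)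
        have : Mono (κ.app W') := inferInstance
        apply (AddCommGrpCat.mono_iff_injective (κ.app W')).1 this
        change κ.app W' (FreeAbelianGroup.lift _ (FreeAbelianGroup.map _ (FreeAbelianGroup.of f))) =
          κ.app W' ((cokernel m).map g (FreeAbelianGroup.lift _ (FreeAbelianGroup.of f)))
        rw [FreeAbelianGroup.map_of_apply, FreeAbelianGroup.lift_apply_of,
          FreeAbelianGroup.lift_apply_of, (hlift W' _).choose_spec]
        refine Eq.trans ?_ (ConcreteCategory.congr_hom (κ.naturality g) _).symm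
        refine Eq.trans ?_ (congrArg (S.X₃.obj.map g) (hlift W f).choose_spec).symm
        exact ConcreteCategory.congr_hom (σ.naturality g) (FreeAbelianGroup.of f) }
  have hψ : ψ ≫ κ = σ := by
    refine NatTrans.ext (funext fun W => AddCommGrpCat.hom_ext (FreeAbelianGroup.lift_ext _ _ fun f => ?_))
    change κ.app W (FreeAbelianGroup.lift _ (FreeAbelianGroup.of f)) = _
    rw [FreeAbelianGroup.lift_apply_of, (hlift W f).choose_spec]
    rfl
  obtain ⟨χ, hχ⟩ := surjective_of_subsingleton hT (h X R hR 0) ψ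
  let b := (presheafToSheaf J AddCommGrpCat.{u}).map
    (Functor.whiskerRight R.functorInclusion AddCommGrpCat.free.{u})
  have : IsIso b := by
    refine (J.W_iff _).1 (GrothendieckTopology.W_of_preservesSheafification J
      AddCommGrpCat.free.{u} _ ?_)
    exact fun Z hZ => (Function.bijective_iff_existsUnique _).2
      (Presieve.isSheafFor_iff_yonedaSheafCondition.1
        ((isSheaf_iff_isSheaf_of_type J Z).1 hZ R hR))
  let η : freeY J X ⟶ S.X₂ := inv b ≫ (sheafifyHomEquiv _ S.X₂).symm χ
  refine ⟨homFreeY _ X η, ?_⟩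
  rw [← homFreeY_comp]
  congr 1
  rw [← cancel_epi b]
  apply (sheafifyHomEquiv _ S.X₃).injective
  have hnr := fun {P : Cᵒᵖ ⥤ AddCommGrpCat.{u}} {F G : Sheaf J AddCommGrpCat.{u}}
      (a : (presheafToSheaf J AddCommGrpCat.{u}).obj P ⟶ F) (k : F ⟶ G) =>
    (sheafificationAdjunction J AddCommGrpCat.{u}).homEquiv_naturality_right a k
  have hnl := fun {P P' : Cᵒᵖ ⥤ AddCommGrpCat.{u}} {F : Sheaf J AddCommGrpCat.{u}}
      (k : P' ⟶ P) (a : (presheafToSheaf J AddCommGrpCat.{u}).obj P ⟶ F) =>
    (sheafificationAdjunction J AddCommGrpCat.{u}).homEquiv_naturality_left k a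
  have e1 : b ≫ η ≫ S.g = (sheafifyHomEquiv _ S.X₂).symm χ ≫ S.g := by
    simp [η]
  rw [e1]
  refine (hnr _ _).trans ?_
  refine (congrArg (· ≫ (sheafToPresheaf J AddCommGrpCat.{u}).map S.g)
    ((sheafifyHomEquiv _ S.X₂).apply_symm_apply χ)).trans ?_
  refine Eq.trans ?_ (hnl _ φ).symm
  have e2 : χ ≫ (sheafToPresheaf J AddCommGrpCat.{u}).map S.g = σ := by
    rw [← hψ, ← hχ, Category.assoc]
    exact congrArg (χ ≫ ·) (cokernel.π_desc m _ _).symm
  refine e2.trans ?_
  exact congrArg (Functor.whiskerRight R.functorInclusion AddCommGrpCat.free.{u} ≫ ·)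
    ((sheafificationAdjunction J AddCommGrpCat.{u}).homEquiv_unit _ _ φ).symm

theorem acycObj_of_sieveAcyc (F : Sheaf J AddCommGrpCat.{u}) (h : SieveAcyc F) : AcycObj F := by
  rw [acycObj_iff]
  intro X n
  refine subsingleton_HU_of_class X (fun G => SieveAcyc G)
    (fun G hG => ⟨fun Y R hR q => ?_, sieveAcyc_surjective G hG X⟩) F h n
  have hT := shortExact_sheafToPresheaf_of_surjective (injSES_shortExact G)
    (sieveAcyc_surjective G hG)
  have hI := sieveAcyc_of_acycObj (injSES G).X₂
    (@acycObj_of_injective _ _ _ _ (Injective.injective_under G))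
  exact @Equiv.subsingleton _ _ (extShift hT (q + 1) (hI Y R hR q) (hI Y R hR (q + 1))).toEquiv
    (hG Y R hR (q + 1))

end GrothLib.SheafCoh
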