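import Groth.Agent.Lib.SheafCoh.Compare
import Groth.Agent.Lib.SheafCoh.Top
import Mathlib.CategoryTheory.Sites.Pullback
import Mathlib.CategoryTheory.Sites.CoverLifting
import Mathlib.Topology.Sheaves.Over

/-!
# Cohomology over an object computed after restriction
-/

universe u

open CategoryTheory Limits Opposite TopologicalSpace

namespace GrothLib.SheafCoh

variable {C : Type u} [SmallCategory C] {J : GrothendieckTopology C}
  {D : Type u} [SmallCategory D] (K : GrothendieckTopology D)

theorem shortExact_map_of_monos_epis {A B : Type*} [Category* A] [Category* B] [Abelian A] [Abelian B]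
    (F : A ⥤ B) [F.Additive] [PreservesFiniteLimits F] [PreservesFiniteColimits F]
    (S : ShortComplex A) (hS : S.ShortExact) : (S.map F).ShortExact :=
  have := Functor.preservesHomologyOfExact F
  hS.map_of_exact F

theorem nonempty_HU_addEquiv_push (u : D ⥤ C) [u.IsContinuous K J] [u.IsCocontinuous K J]
    (V : D)
    (hI : ∀ I : Sheaf J AddCommGrpCat.{u}, Injective I →
      ∀ n : ℕ, Subsingleton (CohSite.HU ((CohSite.push J K u).obj I) (n + 1) V))
    (n : ℕ) (F : Sheaf J AddCommGrpCat.{u}) :
    Nonempty (CohSite.HU F n (u.obj V) ≃+ CohSite.HU ((CohSite.push J K u).obj F) n V) := by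
  let G := CohSite.push J K u
  have : PreservesColimitsOfSize.{0, 0} G :=
    (u.sheafAdjunctionCocontinuous AddCommGrpCat.{u} K J).leftAdjoint_preservesColimits
      (F := G) (G := u.sheafPushforwardCocontinuous AddCommGrpCat.{u} K J)
  have : PreservesLimitsOfSize.{0, 0} G :=
    (Functor.sheafAdjunctionContinuous u AddCommGrpCat.{u} K J).rightAdjoint_preservesLimits
      (F := u.sheafPullback AddCommGrpCat.{u} K J) (G := G)
  obtain ⟨e⟩ := nonempty_ext_addEquiv G (freeY J (u.obj V)) (freeY K V)
    (fun F => (homFreeY F (u.obj V)).trans (homFreeY (G.obj F) V).symm)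
    (fun {F F'} g a => by
      apply (homFreeY (G.obj F') V).injective
      rw [homFreeY_comp]
      erw [AddEquiv.apply_symm_apply, AddEquiv.apply_symm_apply]
      exact homFreeY_comp _ a g)
    (shortExact_map_of_monos_epis G)
    (fun I hI' m => @Equiv.subsingleton _ _ (HUext (G.obj I) (m + 1) V).symm.toEquiv (hI I hI' m))
    n F
  exact ⟨(HUext F n (u.obj V)).trans (e.trans (HUext (G.obj F) n V).symm)⟩

variable {X : TopCat.{u}}

theorem isOpenEmbedding_inclusion (U : Opens X) :
    Topology.IsOpenEmbedding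
      (TopCat.Hom.hom (TopCat.ofHom ⟨_, continuous_subtype_val⟩ : TopCat.of U ⟶ X)) :=
  U.isOpenEmbedding

/-- The functor defining restriction to an open subspace. -/
noncomputable abbrev openFun (U : Opens X) : Opens (TopCat.of U) ⥤ Opens X :=
  (isOpenEmbedding_inclusion U).functor

theorem isContinuous_openFun (U : Opens X) :
    (openFun U).IsContinuous (Opens.grothendieckTopology (TopCat.of U)) (Opens.grothendieckTopology X) :=
  (isOpenEmbedding_inclusion U).functor_isContinuous

theorem isCocontinuous_functor (U : Opens X) :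
    (openFun U).IsCocontinuous (Opens.grothendieckTopology (TopCat.of U))
      (Opens.grothendieckTopology X) :=
  ⟨fun {V S} hS y hy => by
    obtain ⟨W, i, hW, hyW⟩ := hS (y : X) ⟨y, hy, rfl⟩
    let W' : Opens (TopCat.of U) := ⟨Subtype.val ⁻¹' (W : Set X), W.isOpen.preimage continuous_subtype_val⟩
    have hle : W' ≤ V := fun z hz => by
      obtain ⟨z', hz', e⟩ := i.le hz
      obtain rfl : z' = z := Subtype.ext e
      exact hz'
    exact ⟨W', homOfLE hle, S.downward_closed hW
      (homOfLE (show (openFun U).obj W' ≤ W from fun z ⟨z', hz', e⟩ => e ▸ hz')), hyW⟩⟩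

theorem isFlasque_restr (F : CohTop.Ab X) [h : TopCat.Sheaf.IsFlasque F] (U : Opens X) :
    TopCat.Sheaf.IsFlasque (CohTop.restr F U) :=
  ⟨fun i => h.epi ((openFun U).op.map i)⟩

theorem nonempty_HU_addEquiv_restr (F : CohTop.Ab X) (U : Opens X) (W : Opens (TopCat.of U)) (n : ℕ) :
    Nonempty (CohTop.HU F n ((openFun U).obj W) ≃+
      CohTop.HU (CohTop.restr F U) n W) :=
  have := isCocontinuous_functor U
  have := isContinuous_openFun U
  nonempty_HU_addEquiv_push (J := Opens.grothendieckTopology X)
    (Opens.grothendieckTopology (TopCat.of U)) (openFun U) W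
    (fun I hI m => by
      have := isFlasque_of_injective I
      have : TopCat.Sheaf.IsFlasque (CohTop.restr I U) := isFlasque_restr I U
      exact flasque_HU_subsingleton (CohTop.restr I U) m W) n F

theorem nonempty_HU_addEquiv_H_restr (F : CohTop.Ab X) (U : Opens X) (n : ℕ) :
    Nonempty (CohTop.HU F n U ≃+ CohTop.H (CohTop.restr F U) n) := by
  obtain ⟨e⟩ := nonempty_HU_addEquiv_restr F U ⊤ n
  have hU : (openFun U).obj ⊤ = U :=
    Opens.ext (by ext z; exact ⟨fun ⟨z', _, e⟩ => e ▸ z'.2, fun hz => ⟨⟨z, hz⟩, trivial, rfl⟩⟩)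
  rw [hU] at e
  exact ⟨e.trans (HEquivHU (CohTop.restr F U) n (isTerminalTop (α := Opens (TopCat.of U)))).symm⟩

end GrothLib.SheafCoh
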