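import Groth.Agent.Lib.SheafCoh.Shift
import Mathlib.CategoryTheory.Preadditive.AdditiveFunctor
import Mathlib.GroupTheory.QuotientGroup.Basic

/-!
# Comparing `Ext` along an exact functor which makes injectives acyclic
-/

universe w w' v v' u u'

open CategoryTheory Limits Abelian

namespace GrothLib.SheafCoh

section

variable {A : Type u} [Category.{v} A] [Abelian A] [HasExt.{w} A]
  {X : A} {S : ShortComplex A} (hS : S.ShortExact)

/-- The connecting map from homs to `Ext¹`. -/
noncomputable def deltaHom : (X ⟶ S.X₃) →+ Ext.{w} X S.X₁ 1 :=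
  (hS.extClass.postcomp X (zero_add 1)).comp Ext.addEquiv₀.symm.toAddMonoidHom

lemma deltaHom_apply (g : X ⟶ S.X₃) :
    deltaHom hS g = (Ext.mk₀ g).comp hS.extClass (zero_add 1) := rfl

lemma deltaHom_surjective (h : Subsingleton (Ext.{w} X S.X₂ 1)) :
    Function.Surjective (deltaHom.{w} (X := X) hS) := by
  intro x
  obtain ⟨y, rfl⟩ := extClass_surjective hS 0 h x
  obtain ⟨g, rfl⟩ := (Ext.mk₀_bijective _ _).2 y
  exact ⟨g, rfl⟩

lemma deltaHom_eq_zero_iff (g : X ⟶ S.X₃) :
    deltaHom.{w} hS g = 0 ↔ ∃ g' : X ⟶ S.X₂, g' ≫ S.g = g := by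
  rw [deltaHom_apply]
  constructor
  · intro h
    obtain ⟨y, hy⟩ := Ext.covariant_sequence_exact₃ X hS (Ext.mk₀ g) rfl h
    obtain ⟨g', rfl⟩ := (Ext.mk₀_bijective _ _).2 y
    rw [Ext.mk₀_comp_mk₀] at hy
    exact ⟨g', (Ext.mk₀_bijective _ _).1 hy⟩
  · rintro ⟨g', rfl⟩
    rw [← Ext.mk₀_comp_mk₀, Ext.comp_assoc_of_second_deg_zero, hS.comp_extClass, Ext.comp_zero]

end

variable {A : Type u} [Category.{v} A] [Abelian A] [HasExt.{w} A] [EnoughInjectives A]
  {B : Type u'} [Category.{v'} B] [Abelian B] [HasExt.{w'} B]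
  (G : A ⥤ B) [G.PreservesZeroMorphisms] (X : A) (Y : B) (φ : ∀ F : A, (X ⟶ F) ≃+ (Y ⟶ G.obj F))

theorem nonempty_ext_addEquiv
    (hφ : ∀ {F F' : A} (g : F ⟶ F') (a : X ⟶ F), φ F' (a ≫ g) = φ F a ≫ G.map g)
    (hG : ∀ S : ShortComplex A, S.ShortExact → (S.map G).ShortExact)
    (hI : ∀ I : A, Injective I → ∀ n : ℕ, Subsingleton (Ext.{w'} Y (G.obj I) (n + 1)))
    (n : ℕ) (F : A) : Nonempty (Ext.{w} X F n ≃+ Ext.{w'} Y (G.obj F) n) := by
  induction n generalizing F with
  | zero => exact ⟨(Ext.addEquiv₀.trans (φ F)).trans Ext.addEquiv₀.symm⟩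
  | succ n ih =>
    have hS := injSES_shortExact F
    have hT := hG _ hS
    have hX : ∀ m, Subsingleton (Ext.{w} X (injSES F).X₂ (m + 1)) := fun m =>
      Ext.subsingleton_of_injective _ _ _
    have hY : ∀ m, Subsingleton (Ext.{w'} Y ((injSES F).map G).X₂ (m + 1)) := fun m =>
      hI _ (Injective.injective_under F) m
    cases n with
    | zero =>
      let a : (X ⟶ (injSES F).X₃) →+ Ext.{w} X F 1 := deltaHom hS
      let b : (X ⟶ (injSES F).X₃) →+ Ext.{w'} Y (G.obj F) 1 :=
        (deltaHom (X := Y) hT).comp (φ (injSES F).X₃).toAddMonoidHom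
      have ha : Function.Surjective a := deltaHom_surjective hS (hX 0)
      have hb : Function.Surjective b :=
        (deltaHom_surjective (X := Y) hT (hY 0)).comp (φ (injSES F).X₃).surjective
      have hker : a.ker = b.ker := by
        ext g
        change deltaHom hS g = 0 ↔ deltaHom (X := Y) hT (φ _ g) = 0
        refine (deltaHom_eq_zero_iff hS g).trans (Iff.trans ?_ (deltaHom_eq_zero_iff hT _).symm)
        constructor
        · rintro ⟨g', rfl⟩
          exact ⟨φ _ g', (hφ _ g').symm⟩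
        · rintro ⟨g', hg'⟩
          refine ⟨(φ _).symm g', (φ _).injective ((hφ _ _).trans ?_)⟩
          rw [AddEquiv.apply_symm_apply]
          exact hg'
      exact ⟨((QuotientAddGroup.quotientKerEquivOfSurjective a ha).symm.trans
        (QuotientAddGroup.quotientAddEquivOfEq hker)).trans
        (QuotientAddGroup.quotientKerEquivOfSurjective b hb)⟩
    | succ m =>
      obtain ⟨e⟩ := ih (injSES F).X₃
      exact ⟨(extShift hS (m + 1) (hX m) (hX (m + 1))).symm.trans
        (e.trans (extShift (X := Y) hT (m + 1) (hY m) (hY (m + 1))))⟩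

end GrothLib.SheafCoh
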