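import Groth.Agent.Lib.SheafCoh.ExactClass
import Groth.Agent.Lib.SheafCoh.Instances
import Groth.Agent.Lib.SiteDer.TorsionFree
import Groth.Agent.Lib.Cohom.DimShift
import Groth.Agent.Lib.SheafCoh.ModGroth
import Groth.Prelude.Def_CohCx
import Mathlib.CategoryTheory.Adjunction.Additive

/-!
# Injective modules are totally acyclic; module cohomology is abelian cohomology
-/

universe u

open CategoryTheory Limits Opposite Abelian

namespace GrothLib.SheafCoh

variable {C : Type u} [SmallCategory C] {J : GrothendieckTopology C}

lemma torsionFree_free (K : Cᵒᵖ ⥤ Type u) :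
    SiteDer.torsionFree J ((presheafToSheaf J AddCommGrpCat.{u}).obj (K ⋙ AddCommGrpCat.free.{u})) :=
  SiteDer.torsionFree_presheafToSheaf _ fun X n x hn hx => by
    let e := FreeAbelianGroup.equivFinsupp (K.obj X)
    have h := congrArg e (show n • (show FreeAbelianGroup (K.obj X) from x) = 0 from hx)
    rw [map_zsmul, map_zero, smul_eq_zero] at h
    exact e.injective ((h.resolve_left hn).trans (map_zero e).symm)

variable (R : Sheaf J RingCat.{u})

theorem preservesEpimorphisms_toSheaf : (SheafOfModules.toSheaf.{u} R).PreservesEpimorphisms where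
  preserves {M N} f hf := by
    let a := PresheafOfModules.sheafification.{u} (𝟙 R.obj)
    let adj := PresheafOfModules.sheafificationAdjunction.{u} (𝟙 R.obj)
    let g := (SheafOfModules.forget R ⋙ PresheafOfModules.restrictScalars (𝟙 R.obj)).map f
    have hag : a.map g = adj.counit.app M ≫ f ≫ inv (adj.counit.app N) := by
      rw [← Category.assoc, IsIso.eq_comp_inv]
      exact adj.counit.naturality f
    have : Epi (a.map g) := by rw [hag]; infer_instance
    have he : Epi (a.map (Abelian.image.ι g)) := by
      have : a.map g = a.map (Abelian.factorThruImage g) ≫ a.map (Abelian.image.ι g) := by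
        rw [← Functor.map_comp, Abelian.image.fac]
      exact epi_of_epi_fac this.symm
    have : IsIso (a.map (Abelian.image.ι g)) := isIso_of_mono_of_epi _
    have h1 : Epi ((a ⋙ SheafOfModules.toSheaf R).map (Abelian.factorThruImage g)) :=
      inferInstanceAs (Epi ((PresheafOfModules.toPresheaf R.obj ⋙
        presheafToSheaf J AddCommGrpCat.{u}).map (Abelian.factorThruImage g)))
    have h2 : Epi ((SheafOfModules.toSheaf R).map (a.map g)) := by
      rw [show g = Abelian.factorThruImage g ≫ Abelian.image.ι g from (Abelian.image.fac g).symm,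
        Functor.map_comp, Functor.map_comp]
      exact @epi_comp _ _ _ _ _ _ h1 _ (IsIso.epi_of_iso _)
    have hf' : f = inv (adj.counit.app M) ≫ a.map g ≫ adj.counit.app N := by simp [hag]
    rw [hf', Functor.map_comp, Functor.map_comp]
    infer_instance

theorem preservesHomology_toSheaf : (SheafOfModules.toSheaf.{u} R).PreservesHomology :=
  have := preservesEpimorphisms_toSheaf R
  have : PreservesLimitsOfSize.{0, 0} (SheafOfModules.toSheaf.{u} R) :=
    (SiteDer.tensShAdj R).rightAdjoint_preservesLimits
  Functor.preservesHomology_of_preservesEpis_and_kernels _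

theorem subsingleton_ext_injective_module (M : Sheaf J AddCommGrpCat.{u})
    (hM : SiteDer.torsionFree J M) (I : SheafOfModules.{u} R) [Injective I] (n : ℕ) :
    Subsingleton (Ext.{u} M ((SheafOfModules.toSheaf R).obj I) (n + 1)) :=
  subsingleton_ext_of_exactClass (SiteDer.tensShAdj R) (SiteDer.isExactClass_tensSh R) n M hM I

theorem isTotallyAcyclic_of_injective_module (I : SheafOfModules.{u} R) [Injective I] :
    CohCx.IsTotallyAcyclic ((SheafOfModules.toSheaf R).obj I) := fun K p =>
  subsingleton_ext_injective_module R _ (torsionFree_free K.obj) I p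

/-- `Ext` out of `R ⊗ M` in modules is `Ext` out of `M` in abelian sheaves, for torsion-free `M`. -/
theorem nonempty_ext_tens_addEquiv [HasExt.{u} (SheafOfModules.{u} R)]
    (M : Sheaf J AddCommGrpCat.{u}) (hM : SiteDer.torsionFree J M) (N : SheafOfModules.{u} R)
    (n : ℕ) : Nonempty (Ext.{u} ((SiteDer.tensSh R).obj M) N n ≃+
      Ext.{u} M ((SheafOfModules.toSheaf R).obj N) n) := by
  have := enoughInjectives_sheafOfModules R
  have := preservesHomology_toSheaf R
  obtain ⟨c⟩ := DimShift.nonempty_comparison (SheafOfModules.toSheaf.{u} R)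
    ((SiteDer.tensSh R).obj M) M (fun _ => True) (fun _ _ => trivial)
    (fun S hS _ _ => ⟨trivial, by
      have := hS.mono_f
      have := hS.epi_g
      have := preservesEpimorphisms_toSheaf R
      have : PreservesLimitsOfSize.{0, 0} (SheafOfModules.toSheaf.{u} R) :=
        (SiteDer.tensShAdj R).rightAdjoint_preservesLimits
      exact { exact := hS.exact.map _, mono_f := inferInstanceAs (Mono ((SheafOfModules.toSheaf R).map S.f)),
              epi_g := inferInstanceAs (Epi ((SheafOfModules.toSheaf R).map S.g)) }⟩)
    (fun I hI m => @subsingleton_ext_injective_module _ _ _ R M hM I hI m)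
    (fun F => (SiteDer.tensShAdj R).homAddEquiv M F)
    (fun φ a => (SiteDer.tensShAdj R).homEquiv_naturality_right a φ) n
  exact ⟨c.equiv N trivial⟩

/-- The free module on a presheaf of sets is `R ⊗ ℤ[K]`. -/
noncomputable def tensFreeIso :
    (Functor.whiskeringRight Cᵒᵖ _ _).obj AddCommGrpCat.free.{u} ⋙
        presheafToSheaf J AddCommGrpCat.{u} ⋙ SiteDer.tensSh R ≅
      PresheafOfModules.free R.obj ⋙ PresheafOfModules.sheafification (𝟙 R.obj) :=
  Adjunction.leftAdjointUniq
    ((AddCommGrpCat.adj.{u}.whiskerRight Cᵒᵖ).comp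
      ((sheafificationAdjunction J AddCommGrpCat.{u}).comp (SiteDer.tensShAdj R)))
    (((PresheafOfModules.freeAdjunction R.obj).comp
      (PresheafOfModules.sheafificationAdjunction (𝟙 R.obj))).ofNatIsoRight
      (NatIso.ofComponents fun N => Iso.refl _))

end GrothLib.SheafCoh
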