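import Groth.Agent.Lib.SheafCoh.TensorLoc
import Groth.Agent.Lib.SheafCoh.ModColim
import Groth.Agent.Lib.SheafCoh.Instances
import Groth.Agent.Lib.KInj.SiteMod
import Mathlib.CategoryTheory.Abelian.Subobject
import Mathlib.CategoryTheory.Adjunction.AdjointFunctorTheorems

/-! # `- ⊗_O N` on sheaves of modules is a left adjoint -/

universe u

open CategoryTheory MonoidalCategory Opposite Limits

namespace GrothLib.SheafCoh

variable {C : Type u} [SmallCategory C] {J : GrothendieckTopology C} (O : Sheaf J CommRingCat.{u})

/-- presheaves of modules, in the syntactic form having the monoidal structure -/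
abbrev PMod' : Type (u + 1) := PresheafOfModules.{u} (O.obj ⋙ forget₂ CommRingCat.{u} RingCat.{u})

/-- forget to presheaves of modules -/
noncomputable abbrev forgetP : ModSite.Mod O ⥤ PMod' O :=
  SheafOfModules.forget (ModSite.ringSh O)

/-- sheafification -/
noncomputable abbrev shf : PMod' O ⥤ ModSite.Mod O := ModSite.sheafify O

/-- the adjunction -/
noncomputable def shfAdj : shf O ⊣ forgetP O :=
  PresheafOfModules.sheafificationAdjunction (𝟙 (ModSite.ringSh O).obj)

instance : (shf O).IsLeftAdjoint := (shfAdj O).isLeftAdjoint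

theorem isIso_shf_map {P Q : PMod' O} (f : P ⟶ Q)
    [Presheaf.IsLocallyInjective J ((PresheafOfModules.toPresheaf _).map f)]
    [Presheaf.IsLocallySurjective J ((PresheafOfModules.toPresheaf _).map f)] :
    IsIso ((shf O).map f) := by
  rw [← isIso_iff_of_reflects_iso _ (SheafOfModules.toSheaf.{u} (ModSite.ringSh O))]
  exact (GrothendieckTopology.W_iff (J := J) _).1 (J.W_of_isLocallyBijective
    ((PresheafOfModules.toPresheaf _).map f))

theorem isIso_counit_shfAdj : IsIso (shfAdj O).counit := by
  have : (forgetP O).Full := inferInstanceAs (SheafOfModules.forget (ModSite.ringSh O)).Full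
  have : (forgetP O).Faithful := inferInstanceAs (SheafOfModules.forget (ModSite.ringSh O)).Faithful
  infer_instance

theorem isLocallyInjective_unit (P : PMod' O) :
    Presheaf.IsLocallyInjective J ((PresheafOfModules.toPresheaf _).map ((shfAdj O).unit.app P)) := by
  have h : (PresheafOfModules.toPresheaf _).map ((shfAdj O).unit.app P) =
      CategoryTheory.toSheafify J P.presheaf := rfl
  rw [h]
  exact (J.W_toSheafify _).isLocallyInjective

theorem isLocallySurjective_unit (P : PMod' O) :
    Presheaf.IsLocallySurjective J ((PresheafOfModules.toPresheaf _).map ((shfAdj O).unit.app P)) := by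
  have h : (PresheafOfModules.toPresheaf _).map ((shfAdj O).unit.app P) =
      CategoryTheory.toSheafify J P.presheaf := rfl
  rw [h]
  exact (J.W_toSheafify _).isLocallySurjective

/-- `a(P ⊗ N) ≅ a(aP ⊗ N)` -/
theorem isIso_shf_map_unit_whiskerRight (P N : PMod' O) :
    IsIso ((shf O).map ((shfAdj O).unit.app P ▷ N)) := by
  have := isLocallyInjective_unit O P
  have := isLocallySurjective_unit O P
  have := isLocallySurjective_whiskerRight (J := J) ((shfAdj O).unit.app P) N
  have := isLocallyInjective_whiskerRight (J := J) ((shfAdj O).unit.app P) N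
  exact isIso_shf_map O _

/-- `(- ⊗ N)` on sheaves of modules, after sheafification. -/
noncomputable def shfCompTensorIso (N : PMod' O) :
    tensorRight N ⋙ shf O ≅ shf O ⋙ forgetP O ⋙ tensorRight N ⋙ shf O :=
  haveI : IsIso (Functor.whiskerRight (shfAdj O).unit (tensorRight N ⋙ shf O)) := by
    rw [NatTrans.isIso_iff_isIso_app]
    exact fun P => isIso_shf_map_unit_whiskerRight O P N
  (Functor.leftUnitor _).symm ≪≫
    asIso (Functor.whiskerRight (shfAdj O).unit (tensorRight N ⋙ shf O))

theorem preservesColimits_tensor (N : PMod' O) :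
    PreservesColimitsOfSize.{u, u} (forgetP O ⋙ tensorRight N ⋙ shf O) := by
  have := isIso_counit_shfAdj O
  refine ⟨fun {K} _ => ⟨fun {F} => ?_⟩⟩
  have : PreservesColimitsOfShape K (tensorRight N ⋙ shf O) := inferInstance
  have : PreservesColimitsOfShape K (shf O ⋙ forgetP O ⋙ tensorRight N ⋙ shf O) :=
    preservesColimitsOfShape_of_natIso (shfCompTensorIso O N)
  exact preservesColimit_of_reflector (shfAdj O) _ F

/-- `(tensorBi O).flip.obj N` unfolded. -/
noncomputable def tensorBiIso (N : ModSite.Mod O) :
    (ModSite.tensorBi O).flip.obj N ≅ forgetP O ⋙ tensorRight ((forgetP O).obj N) ⋙ shf O :=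
  NatIso.ofComponents (fun _ => Iso.refl _) (fun {M M'} f => by
    exact (Category.comp_id _).trans (Category.id_comp _).symm)

theorem hasSheafHom (N : ModSite.Mod O) : ModSite.HasSheafHom N := by
  have := preservesColimits_tensor O ((forgetP O).obj N)
  have : PreservesColimitsOfSize.{u, u} ((ModSite.tensorBi O).flip.obj N) :=
    preservesColimits_of_natIso (tensorBiIso O N).symm
  exact isLeftAdjoint_of_preservesColimits_of_isSeparating
    (isSeparator_separator (ModSite.Mod O)) _

end GrothLib.SheafCoh
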