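import Groth.Agent.Lib.SheafCoh.ModAcyclic
import Groth.Agent.Lib.SheafCoh.Terminal
import Groth.Prelude.Def_ModSite

/-!
# `Ext_O(O, M)` is the cohomology of the underlying abelian sheaf
-/

universe u

open CategoryTheory Limits Opposite Abelian

namespace GrothLib.SheafCoh

variable {C : Type u} [SmallCategory C] {J : GrothendieckTopology C} (R : Sheaf J RingCat.{u})

/-- The point presheaf. -/
abbrev ptPre : Cᵒᵖ ⥤ Type u := (Functor.const Cᵒᵖ).obj PUnit.{u + 1}

/-- The free module on a point is the unit. -/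
noncomputable def freePtIso : (PresheafOfModules.free R.obj).obj ptPre ≅ PresheafOfModules.unit R.obj :=
  PresheafOfModules.isoMk
    (fun X => (Finsupp.LinearEquiv.finsuppUnique (R.obj.obj X) (R.obj.obj X) PUnit.{u + 1}).toModuleIso)
    (fun X Y f => by
      apply ModuleCat.free_hom_ext
      intro x
      change (Finsupp.LinearEquiv.finsuppUnique (R.obj.obj Y) (R.obj.obj Y) PUnit.{u + 1})
          ((ModuleCat.freeDesc (M := (ModuleCat.restrictScalars (R.obj.map f).hom).obj
            ((ModuleCat.free (R.obj.obj Y)).obj PUnit.{u + 1})) (↾fun x => ModuleCat.freeMk (R := R.obj.obj Y) x)).hom (ModuleCat.freeMk x)) =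
        R.obj.map f ((Finsupp.LinearEquiv.finsuppUnique (R.obj.obj X) (R.obj.obj X) PUnit.{u + 1})
          (ModuleCat.freeMk x))
      rw [ModuleCat.freeDesc_apply]
      obtain rfl : x = PUnit.unit := rfl
      simp [ModuleCat.freeMk, Finsupp.LinearEquiv.finsuppUnique_apply])

/-- `R ⊗ ℤ = R`. -/
noncomputable def tensConstIso :
    (SiteDer.tensSh R).obj ((constantSheaf J AddCommGrpCat.{u}).obj (AddCommGrpCat.of (ULift.{u} ℤ))) ≅
      SheafOfModules.unit R :=
  (SiteDer.tensSh R).mapIso ((presheafToSheaf J AddCommGrpCat.{u}).mapIso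
    (NatIso.ofComponents
      (F := (Functor.const Cᵒᵖ).obj (AddCommGrpCat.of (ULift.{u} ℤ)))
      (G := ptPre ⋙ AddCommGrpCat.free.{u})
      (fun V => (freeUniqueIso PUnit.{u + 1}).symm) (fun g => by
      change 𝟙 _ ≫ (freeUniqueIso PUnit.{u + 1}).inv =
        (freeUniqueIso PUnit.{u + 1}).inv ≫ AddCommGrpCat.free.{u}.map (𝟙 PUnit.{u + 1})
      rw [AddCommGrpCat.free.{u}.map_id, Category.id_comp, Category.comp_id]))) ≪≫
    (tensFreeIso R).app ptPre ≪≫
    (PresheafOfModules.sheafification (𝟙 R.obj)).mapIso (freePtIso R) ≪≫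
    (asIso (PresheafOfModules.sheafificationAdjunction (𝟙 R.obj)).counit).app (SheafOfModules.unit R)

lemma torsionFree_const :
    SiteDer.torsionFree J ((constantSheaf J AddCommGrpCat.{u}).obj (AddCommGrpCat.of (ULift.{u} ℤ))) :=
  SiteDer.torsionFree_presheafToSheaf _ fun X n x hn hx => by
    have h := congrArg ULift.down hx
    change n • (ULift.down (α := ℤ) x) = 0 at h
    exact ULift.ext _ _ ((smul_eq_zero.1 h).resolve_left hn)

theorem nonempty_ext_unit_addEquiv [HasExt.{u} (SheafOfModules.{u} R)] (M : SheafOfModules.{u} R)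
    (n : ℕ) : Nonempty (Ext.{u} (SheafOfModules.unit R) M n ≃+
      Sheaf.H.{u} ((SheafOfModules.toSheaf R).obj M) n) := by
  obtain ⟨e⟩ := nonempty_ext_tens_addEquiv R _ (torsionFree_const (J := J)) M n
  exact ⟨(extPrecompIso (tensConstIso R) M n).trans e⟩

theorem nonempty_ext_free_addEquiv [HasExt.{u} (SheafOfModules.{u} R)] (K : Sheaf J (Type u))
    (M : SheafOfModules.{u} R) (n : ℕ) :
    Nonempty (Ext.{u} ((PresheafOfModules.sheafification (𝟙 R.obj)).obj
        ((PresheafOfModules.free R.obj).obj K.obj)) M n ≃+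
      CohCx.HK K ((SheafOfModules.toSheaf R).obj M) n) := by
  obtain ⟨e⟩ := nonempty_ext_tens_addEquiv R _ (torsionFree_free (J := J) K.obj) M n
  exact ⟨(extPrecompIso ((tensFreeIso R).app K.obj) M n).trans e⟩

end GrothLib.SheafCoh
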