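import Mathlib.CategoryTheory.Sites.SheafCohomology.Basic
import Mathlib.CategoryTheory.Abelian.GrothendieckCategory.HasExt
import Mathlib.CategoryTheory.Abelian.GrothendieckAxioms.Sheaf
import Mathlib.Algebra.Category.Grp.AB
import Mathlib.CategoryTheory.Sites.EpiMono
import Groth.Prelude.Def_CohSite
import Groth.Agent.Lib.SheafCoh.ExtDerived
import Groth.Agent.Lib.SheafCoh.Instances

/-!
# Degree-zero cohomology over an object = sections, and monos between free sheaves
-/

universe u

open CategoryTheory Limits Opposite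

namespace GrothLib.SheafCoh

variable {C : Type u} [SmallCategory C] {J : GrothendieckTopology C}

/-- The free abelian sheaf on a representable. -/
noncomputable abbrev freeY (J : GrothendieckTopology C) (U : C) : Sheaf J AddCommGrpCat.{u} :=
  (presheafToSheaf J AddCommGrpCat.{u}).obj (yoneda.obj U ⋙ AddCommGrpCat.free.{u})

noncomputable abbrev freeYMap (J : GrothendieckTopology C) {V U : C} (f : V ⟶ U) :
    freeY J V ⟶ freeY J U :=
  (presheafToSheaf J AddCommGrpCat.{u}).map
    (Functor.whiskerRight (yoneda.map f) AddCommGrpCat.free.{u})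

/-- Evaluation of a morphism out of the free sheaf on `U` at the tautological section. -/
noncomputable def secOfHom (F : Sheaf J AddCommGrpCat.{u}) (U : C) :
    (freeY J U ⟶ F) →+ F.obj.obj (op U) :=
  AddMonoidHom.mk'
    (fun φ => (φ.hom.app (op U)).hom
      (((toSheafify J (yoneda.obj U ⋙ AddCommGrpCat.free.{u})).app (op U)).hom
        (FreeAbelianGroup.of (𝟙 U))))
    (fun _ _ => rfl)

lemma secOfHom_bijective (F : Sheaf J AddCommGrpCat.{u}) (U : C) :
    Function.Bijective (secOfHom F U) := by
  let e : (freeY J U ⟶ F) ≃ F.obj.obj (op U) :=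
    ((sheafificationAdjunction J AddCommGrpCat.{u}).homEquiv _ _).trans
      (((AddCommGrpCat.adj.{u}.whiskerRight Cᵒᵖ).homEquiv _ _).trans yonedaEquiv)
  have : ⇑(secOfHom F U) = ⇑e := by
    funext φ
    rfl
  rw [this]
  exact e.bijective

noncomputable def homFreeY (F : Sheaf J AddCommGrpCat.{u}) (U : C) :
    (freeY J U ⟶ F) ≃+ F.obj.obj (op U) :=
  AddEquiv.ofBijective (secOfHom F U) (secOfHom_bijective F U)

lemma homFreeY_comp {F G : Sheaf J AddCommGrpCat.{u}} (U : C) (φ : freeY J U ⟶ F) (g : F ⟶ G) :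
    homFreeY G U (φ ≫ g) = (g.hom.app (op U)).hom (homFreeY F U φ) := rfl

lemma homFreeY_map (F : Sheaf J AddCommGrpCat.{u}) {U V : C} (f : V ⟶ U) (φ : freeY J U ⟶ F) :
    homFreeY F V (freeYMap J f ≫ φ) = (F.obj.map f.op).hom (homFreeY F U φ) := by
  let P (W : C) := yoneda.obj W ⋙ AddCommGrpCat.free.{u}
  let ψ : P U ⟶ F.obj := toSheafify J (P U) ≫ φ.hom
  have h1 : toSheafify J (P V) ≫ (freeYMap J f ≫ φ).hom
      = Functor.whiskerRight (yoneda.map f) AddCommGrpCat.free.{u} ≫ ψ := by
    have := toSheafify_naturality J (Functor.whiskerRight (yoneda.map f) AddCommGrpCat.free.{u})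
    simp only [ψ, ← Category.assoc]
    rw [this]
    rfl
  have h2 := ConcreteCategory.congr_hom (ψ.naturality f.op) (FreeAbelianGroup.of (𝟙 U))
  have h3 := ConcreteCategory.congr_hom (NatTrans.congr_app h1 (op V))
    (FreeAbelianGroup.of (𝟙 V))
  change ((toSheafify J (P V) ≫ (freeYMap J f ≫ φ).hom).app (op V)).hom _ =
    (F.obj.map f.op).hom ((ψ.app (op U)).hom _)
  refine h3.trans (Eq.trans ?_ h2)
  change (ψ.app (op V)).hom (FreeAbelianGroup.of (𝟙 V ≫ f)) =
    (ψ.app (op V)).hom (FreeAbelianGroup.of (f ≫ 𝟙 U))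
  simp

lemma free_map_mono {α β : Type u} (f : α ⟶ β) (hf : Function.Injective f) :
    Mono (AddCommGrpCat.free.{u}.map f) := by
  rw [AddCommGrpCat.mono_iff_injective]
  rcases isEmpty_or_nonempty α with h | h
  · intro a b _
    exact Subsingleton.elim (α := FreeAbelianGroup α) a b
  · have : Function.LeftInverse (Function.invFun f) f := Function.leftInverse_invFun hf
    intro a b hab
    have hid : (Function.invFun f ∘ f) = id := funext this
    have := congrArg (FreeAbelianGroup.map (Function.invFun f)) hab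
    change FreeAbelianGroup.map _ (FreeAbelianGroup.map f a) =
      FreeAbelianGroup.map _ (FreeAbelianGroup.map f b) at this
    rwa [← FreeAbelianGroup.map_comp_apply, ← FreeAbelianGroup.map_comp_apply, hid,
      FreeAbelianGroup.map_id, AddMonoidHom.id_apply, AddMonoidHom.id_apply] at this

instance mono_freeYMap {U V : C} (f : V ⟶ U) [Mono f] : Mono (freeYMap J f) := by
  have : Mono (Functor.whiskerRight (yoneda.map f) AddCommGrpCat.free.{u}) := by
    have : ∀ W, Mono ((Functor.whiskerRight (yoneda.map f) AddCommGrpCat.free.{u}).app W) := by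
      intro W
      refine free_map_mono _ ?_
      intro a b hab
      exact (cancel_mono f).1 hab
    exact NatTrans.mono_of_mono_app _
  exact (presheafToSheaf J AddCommGrpCat.{u}).map_mono _

theorem restriction_surjective_of_injective (I : Sheaf J AddCommGrpCat.{u}) [Injective I]
    {U V : C} (f : V ⟶ U) [Mono f] : Function.Surjective (I.obj.map f.op) := by
  intro s
  obtain ⟨φ, rfl⟩ := (homFreeY I V).surjective s
  refine ⟨homFreeY I U (Injective.factorThru φ (freeYMap J f)), ?_⟩
  have := homFreeY_map I f (Injective.factorThru φ (freeYMap J f))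
  rw [Injective.comp_factorThru] at this
  exact this.symm

/-- `U ↦ ℤ[h_U]^#`. -/
noncomputable abbrev freeYFunctor (J : GrothendieckTopology C) :
    C ⥤ Sheaf J AddCommGrpCat.{u} :=
  yoneda ⋙ (Functor.whiskeringRight _ _ _).obj AddCommGrpCat.free.{u} ⋙
    presheafToSheaf J AddCommGrpCat.{u}

lemma cohomologyPresheafFunctor_eq (n : ℕ) :
    Sheaf.cohomologyPresheafFunctor J n = extPreFunctor (freeYFunctor J) n := rfl

/-- Cohomology presheaves, naturally in the sheaf. -/
noncomputable def cpfIso (n : ℕ) :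
    Sheaf.cohomologyPresheafFunctor J n ≅ extPreFunctor (freeYFunctor J) n :=
  eqToIso (cohomologyPresheafFunctor_eq n)

/-- `H^n(U, F)` as an `Ext` group. -/
noncomputable def HUext (F : Sheaf J AddCommGrpCat.{u}) (n : ℕ) (U : C) :
    CohSite.HU F n U ≃+ Abelian.Ext.{u} (freeY J U) F n :=
  (((cpfIso n).app F).app (op U)).addCommGroupIsoToAddEquiv.trans
    (extPreEquiv (freeYFunctor J) F n U)

lemma res_eq (F : Sheaf J AddCommGrpCat.{u}) (n : ℕ) {U V : C} (f : V ⟶ U)
    (ξ : CohSite.HU F n U) :
    HUext F n V (CohSite.res F n f ξ) =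
      (Abelian.Ext.mk₀ (freeYMap J f)).comp (HUext F n U ξ) (zero_add n) :=
  (congrArg (extPreEquiv (freeYFunctor J) F n V)
      (ConcreteCategory.congr_hom (((cpfIso (J := J) n).app F).hom.naturality f.op) ξ)).trans
    (extPreEquiv_map (freeYFunctor J) F n f _)

lemma map_eq {F G : Sheaf J AddCommGrpCat.{u}} (g : F ⟶ G) (n : ℕ) (U : C)
    (ξ : CohSite.HU F n U) :
    HUext G n U ((((Sheaf.cohomologyPresheafFunctor J n).map g).app (op U)).hom ξ) =
      (HUext F n U ξ).comp (Abelian.Ext.mk₀ g) (add_zero n) :=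
  (congrArg (extPreEquiv (freeYFunctor J) G n U)
      (ConcreteCategory.congr_hom
        (NatTrans.congr_app ((cpfIso (J := J) n).hom.naturality g) (op U)) ξ)).trans
    (extPreEquiv_app (freeYFunctor J) g n U _)

/-- `H^0(U, F) = F(U)`. -/
noncomputable def HU0 (F : Sheaf J AddCommGrpCat.{u}) (U : C) :
    CohSite.HU F 0 U ≃+ F.obj.obj (op U) :=
  (HUext F 0 U).trans (Abelian.Ext.addEquiv₀.trans (homFreeY F U))

end GrothLib.SheafCoh
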