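import Groth.Agent.Lib.SheafCoh.TensorShf
import Groth.Agent.Lib.SheafCoh.ModAcyclic
import Mathlib.LinearAlgebra.TensorProduct.Tower

/-! # Internal homs into injective modules are totally acyclic -/

universe u

open CategoryTheory MonoidalCategory Opposite Limits TensorProduct Abelian

namespace GrothLib.SheafCoh

theorem injective_rTensor_baseChange {A : Type u} [CommRing A] {X Y : Type u} [AddCommGroup X]
    [AddCommGroup Y] (φ : X →ₗ[ℤ] Y) (N : Type u) [AddCommGroup N] [Module A N]
    (h : Function.Injective (LinearMap.lTensor N φ)) :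
    Function.Injective (LinearMap.rTensor N (AlgebraTensorModule.lTensor A A φ)) := by
  let eX := (TensorProduct.comm A (A ⊗[ℤ] X) N).trans (AlgebraTensorModule.cancelBaseChange ℤ A A N X)
  let eY := (TensorProduct.comm A (A ⊗[ℤ] Y) N).trans (AlgebraTensorModule.cancelBaseChange ℤ A A N Y)
  have key : ∀ z, eY (LinearMap.rTensor N (AlgebraTensorModule.lTensor A A φ) z) =
      LinearMap.lTensor N φ (eX z) := fun z => by
    induction z using TensorProduct.induction_on with
    | zero => simp
    | tmul p n =>
      induction p using TensorProduct.induction_on with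
      | zero => simp
      | tmul a x => simp [eX, eY]
      | add p q hp hq => simp only [TensorProduct.add_tmul, map_add, hp, hq]
    | add p q hp hq => simp only [map_add, hp, hq]
  intro a b hab
  exact eX.injective (h ((key a).symm.trans ((congrArg eY hab).trans (key b))))

variable {C : Type u} [SmallCategory C] {J : GrothendieckTopology C}

theorem injective_tens_whiskerRight (R : Cᵒᵖ ⥤ CommRingCat.{u})
    {F F' : Cᵒᵖ ⥤ AddCommGrpCat.{u}} (φ : F ⟶ F')
    (N : PresheafOfModules.{u} (R ⋙ forget₂ CommRingCat.{u} RingCat.{u})) (X : Cᵒᵖ)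
    (h : Function.Injective (LinearMap.lTensor (N.obj X) (φ.app X).hom.toIntLinearMap)) :
    Function.Injective
      (((SiteDer.tensFunctor (R ⋙ forget₂ CommRingCat.{u} RingCat.{u})).map φ ▷ N).app X) := by
  let Rc := R ⋙ forget₂ CommRingCat.{u} RingCat.{u}
  have key : ∀ z, ((SiteDer.tensFunctor Rc).map φ ▷ N).app X z =
      LinearMap.rTensor (N.obj X)
        (AlgebraTensorModule.lTensor (Rc.obj X) (Rc.obj X) (φ.app X).hom.toIntLinearMap) z := fun z => by
    induction z using TensorProduct.induction_on with
    | zero => exact (map_zero _).trans (map_zero _).symm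
    | tmul p n =>
      change ((SiteDer.tensFunctor Rc).map φ).app X p ⊗ₜ[Rc.obj X] n =
        AlgebraTensorModule.lTensor (Rc.obj X) (Rc.obj X) (φ.app X).hom.toIntLinearMap p ⊗ₜ[Rc.obj X] n
      congr 1
      induction p using TensorProduct.induction_on with
      | zero => exact (map_zero _).trans (map_zero _).symm
      | tmul a x => exact SiteDer.tensFunctor_map_app_tmul Rc φ X a x
      | add p q hp hq => exact (map_add _ p q).trans ((congrArg₂ (· + ·) hp hq).trans (map_add _ p q).symm)
    | add p q hp hq => exact (map_add _ p q).trans ((congrArg₂ (· + ·) hp hq).trans (map_add _ p q).symm)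
  intro a b hab
  exact injective_rTensor_baseChange (A := Rc.obj X) _ (N.obj X) h
    ((key a).symm.trans (hab.trans (key b)))

variable (O : Sheaf J CommRingCat.{u})

/-- `M ↦ (O ⊗ M) ⊗_O N` computed on presheaves. -/
noncomputable def tensTensorIso (N : ModSite.Mod O) :
    sheafToPresheaf J AddCommGrpCat.{u} ⋙ SiteDer.tensFunctor (O.obj ⋙ forget₂ CommRingCat.{u} RingCat.{u}) ⋙
        tensorRight ((forgetP O).obj N) ⋙ shf O ≅
      SiteDer.tensSh (ModSite.ringSh O) ⋙ (ModSite.tensorBi O).flip.obj N :=
  Functor.isoWhiskerLeft (sheafToPresheaf J AddCommGrpCat.{u})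
      (Functor.isoWhiskerLeft (SiteDer.tensFunctor (O.obj ⋙ forget₂ CommRingCat.{u} RingCat.{u}))
        (shfCompTensorIso O ((forgetP O).obj N))) ≪≫
    Functor.isoWhiskerLeft (SiteDer.tensSh (ModSite.ringSh O)) (tensorBiIso O N).symm

theorem mono_tensTensor_map (N : ModSite.Mod O) (S : ShortComplex (Sheaf J AddCommGrpCat.{u}))
    (hS : S.ShortExact) (h₃ : SiteDer.torsionFree J S.X₃) :
    Mono ((SiteDer.tensSh (ModSite.ringSh O) ⋙ (ModSite.tensorBi O).flip.obj N).map S.f) := by
  have := hS.mono_f
  have := (sheafToPresheaf J AddCommGrpCat.{u}).map_mono S.f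
  have hm : Mono ((SiteDer.tensFunctor (O.obj ⋙ forget₂ CommRingCat.{u} RingCat.{u}) ⋙
      tensorRight ((forgetP O).obj N)).map S.f.hom) := by
    apply Functor.mono_of_mono_map (PresheafOfModules.toPresheaf _)
    refine @NatTrans.mono_of_mono_app _ _ _ _ _ _ _ fun X => ?_
    rw [AddCommGrpCat.mono_iff_injective]
    let ev := sheafToPresheaf J AddCommGrpCat.{u} ⋙ (evaluation _ _).obj X
    have hex := (ShortComplex.ab_exact_iff_function_exact _).1
      (hS.exact.map_of_mono_of_preservesKernel ev inferInstance inferInstance)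
    refine injective_tens_whiskerRight O.obj S.f.hom ((forgetP O).obj N) X ?_
    have hi : Function.Injective (S.f.hom.app X) := by
      have : Mono S.f.hom := ‹Mono ((sheafToPresheaf J AddCommGrpCat.{u}).map S.f)›
      exact (AddCommGrpCat.mono_iff_injective _).1 ((NatTrans.mono_iff_mono_app S.f.hom).1 inferInstance X)
    let g : S.X₂.obj.obj X →+ S.X₃.obj.obj X := (S.g.hom.app X).hom
    have : Module.IsTorsionFree ℤ g.range := by
      rw [Submodule.isTorsionFree_iff_torsion_eq_bot, eq_bot_iff]
      rintro ⟨m, hm⟩ ⟨⟨n, hn⟩, hnm⟩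
      rw [Submodule.mem_bot]
      exact Subtype.ext (h₃ X n m (nonZeroDivisors.ne_zero hn) (congrArg Subtype.val hnm))
    have : Module.Flat ℤ g.range := Module.Flat.flat_iff_torsion_eq_bot_of_isBezout.2
      (Submodule.isTorsionFree_iff_torsion_eq_bot.1 inferInstance)
    exact LinearMap.lTensor_injective_of_exact_of_flat g.rangeRestrict.toIntLinearMap
      g.rangeRestrict_surjective (S.f.hom.app X).hom.toIntLinearMap hi
      (fun y => Subtype.ext_iff.trans (hex y)) _
  have : Mono ((sheafToPresheaf J AddCommGrpCat.{u} ⋙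
      SiteDer.tensFunctor (O.obj ⋙ forget₂ CommRingCat.{u} RingCat.{u}) ⋙
      tensorRight ((forgetP O).obj N) ⋙ shf O).map S.f) :=
    @Functor.map_mono _ _ _ _ (shf O)
      (inferInstanceAs (PresheafOfModules.sheafification.{u} (𝟙 (ModSite.ringSh O).obj)).PreservesMonomorphisms) _ _ _ hm
  exact ((MorphismProperty.monomorphisms _).arrow_mk_iso_iff
    ((Functor.mapArrowFunctor _ _).mapIso (tensTensorIso O N) |>.app (Arrow.mk S.f))).1 this

theorem isTotallyAcyclic_sheafHom (F G : ModSite.Mod O) [ModSite.HasSheafHom F] [Injective G] :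
    CohCx.IsTotallyAcyclic (ModSite.toAb ((ModSite.sheafHom F).obj G)) := fun K p =>
  subsingleton_ext_of_exactClass
    ((SiteDer.tensShAdj (ModSite.ringSh O)).comp (ModSite.sheafHomAdj F))
    (P := SiteDer.torsionFree J)
    { of_mono := fun f hf => SiteDer.torsionFree_of_mono f hf
      biprod := SiteDer.torsionFree_biprod
      cover := SiteDer.exists_torsionFree_cover
      mono_map := mono_tensTensor_map O F }
    p _ (torsionFree_free K.obj) G

end GrothLib.SheafCoh
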