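import Groth.Agent.Lib.SheafCoh.TensorAdj

/-! # Sheafification of a tensor product of presheaves of modules -/

universe u

open CategoryTheory MonoidalCategory Opposite Limits

namespace GrothLib.SheafCoh

variable {C : Type u} [SmallCategory C] {J : GrothendieckTopology C} (O : Sheaf J CommRingCat.{u})

theorem isIso_shf_map_whiskerLeft_unit (P N : PMod' O) :
    IsIso ((shf O).map (P ◁ (shfAdj O).unit.app N)) := by
  have h : P ◁ (shfAdj O).unit.app N =
      (β_ P N).hom ≫ (shfAdj O).unit.app N ▷ P ≫ (β_ P _).inv := by
    rw [← BraidedCategory.braiding_naturality_right_assoc, Iso.hom_inv_id, Category.comp_id]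
  have := isIso_shf_map_unit_whiskerRight O N P
  rw [h, Functor.map_comp, Functor.map_comp]
  infer_instance

theorem isIso_shf_map_tensorHom_unit (M N : PMod' O) :
    IsIso ((shf O).map ((shfAdj O).unit.app M ⊗ₘ (shfAdj O).unit.app N)) := by
  have := isIso_shf_map_unit_whiskerRight O M N
  have := isIso_shf_map_whiskerLeft_unit O ((shf O ⋙ forgetP O).obj M) N
  rw [MonoidalCategory.tensorHom_def]
  simp only [Functor.map_comp]
  infer_instance

end GrothLib.SheafCoh
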