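import Groth.Agent.Lib.SheafCoh.Push
import Groth.Agent.Lib.Cech.Cartan
import Mathlib.CategoryTheory.Limits.Constructions.LimitsOfProductsAndEqualizers
import Mathlib.CategoryTheory.Limits.Constructions.Over.Connected

/-!
# Inverse image along a continuous cocontinuous functor commuting with fibre products
-/

universe u

open CategoryTheory Limits Opposite

namespace GrothLib.SheafCoh

variable {C D : Type u} [SmallCategory C] [SmallCategory D] (u : C ⥤ D) (U : C)

theorem preservesFiniteLimits_post [HasPullbacks C] [PreservesLimitsOfShape WalkingCospan u] :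
    PreservesFiniteLimits (Over.post (X := U) u) := by
  have : PreservesLimitsOfShape WalkingCospan (Over.post (X := U) u ⋙ Over.forget (u.obj U)) :=
    inferInstanceAs (PreservesLimitsOfShape WalkingCospan (Over.forget U ⋙ u))
  have : PreservesLimitsOfShape WalkingCospan (Over.post (X := U) u) :=
    preservesLimitsOfShape_of_reflects_of_preserves _ (Over.forget (u.obj U))
  have : PreservesLimitsOfShape (Discrete PEmpty.{1}) (Over.post (X := U) u) := by
    refine @preservesLimitsOfShape_pempty_of_preservesTerminal _ _ _ _ (Over.post (X := U) u) ?_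
    exact preservesLimit_of_preserves_limit_cone (Over.mkIdTerminal (X := U))
      ((isLimitMapConeEmptyConeEquiv _ _).symm (Over.mkIdTerminal.ofIso
        (Over.isoMk (Iso.refl (u.obj U)) (by exact (Category.id_comp _).trans (u.map_id U)))))
  exact preservesFiniteLimits_of_preservesTerminal_and_pullbacks _

theorem injective_post_comp [HasPullbacks C] [PreservesLimitsOfShape WalkingCospan u]
    (P : Dᵒᵖ ⥤ AddCommGrpCat.{u}) [Injective P] :
    Injective ((Over.post (X := U) u).op ⋙ (Over.forget (u.obj U)).op ⋙ P) := by
  have := preservesFiniteLimits_post u U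
  have : HasFiniteLimits (Over U) := hasFiniteLimits_of_hasTerminal_and_pullbacks
  have : RepresentablyFlat (Over.post (X := U) u) := flat_of_preservesFiniteLimits _
  have : PreservesFiniteLimits ((Over.post (X := U) u).op.lan :
      (_ ⥤ (Over (u.obj U))ᵒᵖ ⥤ AddCommGrpCat.{u})) := lan_preservesFiniteLimits_of_flat _ _
  have hm : ((Over.post (X := U) u).op.lan :
      (_ ⥤ (Over (u.obj U))ᵒᵖ ⥤ AddCommGrpCat.{u})).PreservesMonomorphisms :=
    preservesMonomorphisms_of_preservesLimitsOfShape _
  exact @Injective.injective_of_adjoint _ _ _ _ _ _ hm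
    ((Over.post (X := U) u).op.lanAdjunction AddCommGrpCat.{u})
    ((Over.forget (u.obj U)).op ⋙ P) (injective_overForget_comp (u.obj U) P)

variable [HasPullbacks C] (J : GrothendieckTopology C) (K : GrothendieckTopology D)
  [PreservesLimitsOfShape WalkingCospan u] [u.IsContinuous J K]

theorem acycObj_push_injective (I : Sheaf K AddCommGrpCat.{u}) [hI : Injective I] (p : ℕ) :
    Subsingleton (CohSite.HU ((CohSite.push K J u).obj I) (p + 1) U) := by
  refine Cech.cartan_site (J := J) Set.univ
    (fun V ι Y => Sieve.ofArrows (fun i => (Y i).left) (fun i => (Y i).hom) ∈ J V)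
    (fun V ι Y hY => ⟨trivial, hY, fun _ _ => trivial⟩) (fun V _ T hT => ?_) _ (fun V ι Y _ n => ?_)
    U trivial p
  · refine ⟨Σ W : C, {f : W ⟶ V // T f}, fun i => Over.mk i.2.1, J.superset_covering ?_ hT,
      fun i => i.2.2⟩
    intro W f hf
    exact Sieve.ofArrows_mk (fun i : (Σ W : C, {f : W ⟶ V // T f}) => i.1) (fun i => i.2.1)
      ⟨W, f, hf⟩
  · have : Injective I.obj := Cech.injective_presheaf I (hI := hI)
    have := injective_post_comp u V I.obj
    exact Cech.isZero_homology_of_injective Y
      ((Over.post (X := V) u).op ⋙ (Over.forget (u.obj V)).op ⋙ I.obj) n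

/-- Cohomology of the inverse image along a continuous cocontinuous functor. -/
theorem nonempty_HU_cocont_addEquiv [u.IsCocontinuous J K] (F : Sheaf K AddCommGrpCat.{u}) (n : ℕ) :
    Nonempty (CohSite.HU ((CohSite.push K J u).obj F) n U ≃+ CohSite.HU F n (u.obj U)) := by
  let G := CohSite.push K J u
  have : PreservesColimitsOfSize.{0, 0} G :=
    (u.sheafAdjunctionCocontinuous AddCommGrpCat.{u} J K).leftAdjoint_preservesColimits
      (F := G) (G := u.sheafPushforwardCocontinuous AddCommGrpCat.{u} J K)
  have : PreservesLimitsOfSize.{0, 0} G :=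
    (u.sheafAdjunctionContinuous AddCommGrpCat.{u} J K).rightAdjoint_preservesLimits (G := G)
  have : G.PreservesHomology := Functor.preservesHomologyOfExact G
  obtain ⟨c⟩ := DimShift.nonempty_comparison G (freeY K (u.obj U)) (freeY J U) (fun _ => True)
    (fun _ _ => trivial) (fun S hS _ _ => ⟨trivial, hS.map_of_exact G⟩)
    (fun I hI m => @Equiv.subsingleton _ _ (HUext (G.obj I) (m + 1) U).symm.toEquiv
      (acycObj_push_injective u U J K I (hI := hI) m))
    (homFreeYPush J u U) (fun φ a => homFreeYPush_comp J u U φ a) n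
  exact ⟨(HUext _ n U).trans ((c.equiv F trivial).symm.trans (HUext F n (u.obj U)).symm)⟩

end GrothLib.SheafCoh
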