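import Groth.Agent.Lib.SheafCoh.Shift
import Groth.Agent.Lib.SiteDer.Generic
import Mathlib.CategoryTheory.Abelian.Basic

/-!
# Vanishing of `Ext` into images of injectives under right adjoints with almost exact left adjoint
-/

universe w v v' u u'

open CategoryTheory CategoryTheory.Limits Abelian

namespace GrothLib.SheafCoh

variable {B : Type u} [Category.{v} B] [Abelian B] [HasExt.{w} B] [EnoughInjectives B]

/-- Every class of positive degree dies after pulling back along some epimorphism. -/
theorem exists_epi_kill (n : ℕ) {X Y : B} (x : Ext.{w} X Y (n + 1)) :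
    ∃ (E : B) (π : E ⟶ X), Epi π ∧ (Ext.mk₀ π).comp x (zero_add _) = 0 := by
  induction n generalizing Y with
  | zero =>
    obtain ⟨y, rfl⟩ := extClass_surjective (injSES_shortExact Y) 0
      (Ext.subsingleton_of_injective _ _ _) x
    obtain ⟨g, rfl⟩ := (Ext.mk₀_bijective _ _).2 y
    refine ⟨pullback (injSES Y).g g, pullback.snd _ _, ?_, ?_⟩
    · have : Epi (injSES Y).g := inferInstanceAs (Epi (cokernel.π _))
      infer_instance
    · rw [← Ext.comp_assoc_of_second_deg_zero, Ext.mk₀_comp_mk₀, ← pullback.condition,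
        ← Ext.mk₀_comp_mk₀, Ext.comp_assoc_of_second_deg_zero,
        (injSES_shortExact Y).comp_extClass, Ext.comp_zero]
  | succ n ih =>
    obtain ⟨y, rfl⟩ := extClass_surjective (injSES_shortExact Y) (n + 1)
      (Ext.subsingleton_of_injective _ _ _) x
    obtain ⟨E, π, hπ, h⟩ := ih y
    refine ⟨E, π, hπ, ?_⟩
    rw [← Ext.comp_assoc (Ext.mk₀ π) y _ (zero_add (n + 1)) rfl (by omega), h, Ext.zero_comp]

variable {A : Type u'} [Category.{v'} A] [Abelian A] {T : B ⥤ A} {U : A ⥤ B} (adj : T ⊣ U)
  {P : ObjectProperty B} (hP : SiteDer.IsExactClass T P)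

omit [HasExt.{w} B] [EnoughInjectives B] [Abelian A] in
include adj hP in
/-- Maps into `U I` extend along monomorphisms with cokernel in the class. -/
lemma exists_extend {S : ShortComplex B} (hS : S.ShortExact) (h₃ : P S.X₃) (I : A) [Injective I]
    (φ : S.X₁ ⟶ U.obj I) : ∃ ψ : S.X₂ ⟶ U.obj I, S.f ≫ ψ = φ := by
  have := hP.mono_map S hS h₃
  refine ⟨adj.homEquiv _ _ (Injective.factorThru ((adj.homEquiv _ _).symm φ) (T.map S.f)), ?_⟩
  rw [← Adjunction.homEquiv_naturality_left, Injective.comp_factorThru, Equiv.apply_symm_apply]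

include adj hP in
theorem subsingleton_ext_of_exactClass (n : ℕ) (M : B) (hM : P M) (I : A) [hI : Injective I] :
    Subsingleton (Ext.{w} M (U.obj I) (n + 1)) := by
  induction n generalizing M with
  | zero =>
    refine subsingleton_of_forall_eq 0 fun x => ?_
    obtain ⟨y, rfl⟩ := extClass_surjective (injSES_shortExact (U.obj I)) 0
      (Ext.subsingleton_of_injective _ _ _) x
    obtain ⟨g, rfl⟩ := (Ext.mk₀_bijective _ _).2 y
    let S := injSES (U.obj I)
    have : Epi S.g := inferInstanceAs (Epi (cokernel.π _))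
    have : Mono S.f := inferInstanceAs (Mono (Injective.ι _))
    obtain ⟨F, c, hc, hF⟩ := hP.cover (pullback S.g g)
    let π : F ⟶ M := c ≫ pullback.snd S.g g
    let h : F ⟶ S.X₂ := c ≫ pullback.fst S.g g
    have : Epi π := inferInstanceAs (Epi (c ≫ pullback.snd S.g g))
    have hh : h ≫ S.g = π ≫ g := by simp [h, π, pullback.condition]
    have hk : (kernel.ι π ≫ h) ≫ S.g = 0 := by
      rw [Category.assoc, hh, kernel.condition_assoc, zero_comp]
    have hS : S.ShortExact := injSES_shortExact _
    obtain ⟨φ, hφ⟩ := hS.exact.lift' (kernel.ι π ≫ h) hk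
    let R : ShortComplex B := ShortComplex.mk (kernel.ι π) π (kernel.condition π)
    have hR : R.ShortExact := { exact := ShortComplex.exact_of_f_is_kernel _ (kernelIsKernel π) }
    obtain ⟨ψ, hψ⟩ := exists_extend adj hP hR hM I φ
    obtain ⟨l, hl⟩ := CokernelCofork.IsColimit.desc' hR.gIsCokernel (h - ψ ≫ S.f) (by
      change kernel.ι π ≫ _ = 0
      rw [Preadditive.comp_sub, ← hφ, ← Category.assoc]
      exact (congrArg (fun t => φ ≫ S.f - t ≫ S.f) hψ).trans (sub_self _))
    have hl' : l ≫ S.g = g := by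
      rw [← cancel_epi π, ← Category.assoc]
      have hl2 : π ≫ l = h - ψ ≫ S.f := hl
      rw [hl2, Preadditive.sub_comp, Category.assoc ψ S.f S.g, S.zero, comp_zero, sub_zero, hh]
    rw [← hl', ← Ext.mk₀_comp_mk₀, Ext.comp_assoc_of_second_deg_zero, hS.comp_extClass,
      Ext.comp_zero]
  | succ n ih =>
    refine subsingleton_of_forall_eq 0 fun x => ?_
    obtain ⟨E, π, hπ, hx⟩ := exists_epi_kill (n + 1) x
    obtain ⟨F, c, hc, hF⟩ := hP.cover E
    let p : F ⟶ M := c ≫ π
    have : Epi p := inferInstanceAs (Epi (c ≫ π))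
    let R : ShortComplex B := ShortComplex.mk (kernel.ι p) p (kernel.condition p)
    have hR : R.ShortExact := { exact := ShortComplex.exact_of_f_is_kernel _ (kernelIsKernel p) }
    have hxp : (Ext.mk₀ R.g).comp x (zero_add _) = 0 := by
      change (Ext.mk₀ (c ≫ π)).comp x (zero_add _) = 0
      rw [← Ext.mk₀_comp_mk₀, Ext.comp_assoc_of_second_deg_zero, hx, Ext.comp_zero]
    obtain ⟨z, hz⟩ := Ext.contravariant_sequence_exact₃ hR (U.obj I) x hxp (n₀ := n + 1) (by omega)
    have := ih (kernel p) (hP.of_mono (kernel.ι p) inferInstance hF)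
    rw [← hz, @Subsingleton.elim _ this z 0, Ext.comp_zero]

end GrothLib.SheafCoh
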