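import Groth.Agent.Lib.SheafCoh.Shift

/-!
# `Ext^1` into a product
-/

universe w v u

open CategoryTheory Limits Abelian

namespace GrothLib.SheafCoh

variable {A : Type u} [Category.{v} A] [Abelian A] [HasExt.{w} A] [EnoughInjectives A]

theorem ext_one_pi_injective {ι : Type*} [HasLimitsOfShape (Discrete ι) A] (F : ι → A) (X : A)
    (x : Ext.{w} X (∏ᶜ F) 1) (hx : ∀ i, x.comp (Ext.mk₀ (Pi.π F i)) (add_zero 1) = 0) :
    x = 0 := by
  let f : (∏ᶜ F) ⟶ ∏ᶜ fun i => Injective.under (F i) := Limits.Pi.map fun i => Injective.ι (F i)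
  let S := ShortComplex.mk f (cokernel.π f) (cokernel.condition f)
  have hS : S.ShortExact :=
    { exact := ShortComplex.exact_of_g_is_cokernel _ (cokernelIsCokernel S.f) }
  have w (i : ι) : f ≫ Pi.π _ i ≫ cokernel.π (Injective.ι (F i)) = 0 := by simp [f]
  let φ (i : ι) : S ⟶ injSES (F i) :=
    { τ₁ := Pi.π F i
      τ₂ := Pi.π (fun j => Injective.under (F j)) i
      τ₃ := cokernel.desc f (Pi.π _ i ≫ cokernel.π (Injective.ι (F i))) (w i)
      comm₁₂ := by simp [S, f]
      comm₂₃ := by simp [S] }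
  obtain ⟨y, rfl⟩ := extClass_surjective hS 0 (Ext.subsingleton_of_injective _ _ _) x
  obtain ⟨g, rfl⟩ := (Ext.mk₀_bijective _ _).2 y
  have hg : ∀ i, ∃ h : X ⟶ Injective.under (F i),
      h ≫ cokernel.π (Injective.ι (F i)) = g ≫ (φ i).τ₃ := by
    intro i
    have hi := hx i
    rw [Ext.comp_assoc_of_third_deg_zero,
      hS.extClass_naturality (injSES_shortExact (F i)) (φ i),
      ← Ext.comp_assoc_of_second_deg_zero, Ext.mk₀_comp_mk₀] at hi
    obtain ⟨z, hz⟩ := Ext.covariant_sequence_exact₃ X (injSES_shortExact (F i)) _ rfl hi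
    obtain ⟨h, rfl⟩ := (Ext.mk₀_bijective _ _).2 z
    rw [Ext.mk₀_comp_mk₀] at hz
    exact ⟨h, (Ext.mk₀_bijective _ _).1 hz⟩
  choose h hh using hg
  have key : g = Pi.lift h ≫ S.g := by
    rw [← sub_eq_zero]
    obtain ⟨A', π, _, t, ht⟩ := surjective_up_to_refinements_of_epi (cokernel.π f)
      (g - Pi.lift h ≫ S.g)
    have hz (i : ι) : (g - Pi.lift h ≫ S.g) ≫ (φ i).τ₃ = 0 := by
      rw [Preadditive.sub_comp, ← hh i]
      simp [φ, S]
    have hl (i : ι) : ∃ a : A' ⟶ F i, a ≫ Injective.ι (F i) = t ≫ Pi.π _ i := by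
      have : (t ≫ Pi.π (fun j => Injective.under (F j)) i) ≫ cokernel.π (Injective.ι (F i)) = 0 := by
        have := congrArg (fun k => k ≫ (φ i).τ₃) ht
        simp only [Category.assoc, hz, comp_zero] at this
        simpa [φ] using this.symm
      exact ⟨_, (injSES_shortExact (F i)).exact.lift_f _ this⟩
    choose a ha using hl
    have htf : t = Pi.lift a ≫ f := Pi.hom_ext _ _ fun i => by simp [f, ha]
    rw [← cancel_epi π, comp_zero, ht, htf, Category.assoc, cokernel.condition, comp_zero]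
  rw [key, ← Ext.mk₀_comp_mk₀, Ext.comp_assoc_of_second_deg_zero, hS.comp_extClass, Ext.comp_zero]

end GrothLib.SheafCoh
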