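import Groth.Prelude.Def_ModSite
import Mathlib.CategoryTheory.Sites.LocallyBijective

/-! # Tensoring preserves locally bijective morphisms of presheaves of modules -/
universe u
open CategoryTheory MonoidalCategory Opposite Limits TensorProduct

namespace GrothLib.SheafCoh
variable {C : Type u} [SmallCategory C] {J : GrothendieckTopology C} {R : Cᵒᵖ ⥤ CommRingCat.{u}}


variable {P Q : PresheafOfModules.{u} (R ⋙ forget₂ CommRingCat.{u} RingCat.{u})} (f : P ⟶ Q)
  (N : PresheafOfModules.{u} (R ⋙ forget₂ CommRingCat.{u} RingCat.{u}))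

theorem presheaf_whiskerRight_tmul (U : Cᵒᵖ) (p : P.obj U) (n : N.obj U) :
    ((PresheafOfModules.toPresheaf _).map (f ▷ N)).app U
      (p ⊗ₜ[(R ⋙ forget₂ CommRingCat.{u} RingCat.{u}).obj U] n) =
      (f.app U p) ⊗ₜ[(R ⋙ forget₂ CommRingCat.{u} RingCat.{u}).obj U] n := rfl

theorem tensor_presheaf_map_tmul {U V : Cᵒᵖ} (g : U ⟶ V) (p : P.obj U) (n : N.obj U) :
    (P ⊗ N).presheaf.map g (p ⊗ₜ[(R ⋙ forget₂ CommRingCat.{u} RingCat.{u}).obj U] n) =
      (P.map g p) ⊗ₜ[(R ⋙ forget₂ CommRingCat.{u} RingCat.{u}).obj V] (N.map g n) := rfl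

theorem isLocallySurjective_whiskerRight
    [Presheaf.IsLocallySurjective J ((PresheafOfModules.toPresheaf _).map f)] :
    Presheaf.IsLocallySurjective J ((PresheafOfModules.toPresheaf _).map (f ▷ N)) where
  imageSieve_mem {U} s := by
    induction s using TensorProduct.induction_on with
    | zero =>
      refine J.superset_covering ?_ (J.top_mem U)
      intro V g _
      exact ⟨0, (map_zero _).trans (map_zero _).symm⟩
    | tmul q n =>
      refine J.superset_covering ?_
        (Presheaf.imageSieve_mem J ((PresheafOfModules.toPresheaf _).map f) (U := op U) q)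
      rintro V g ⟨p, hp⟩
      refine ⟨p ⊗ₜ[(R ⋙ forget₂ CommRingCat.{u} RingCat.{u}).obj (op V)] N.map g.op n, ?_⟩
      exact (presheaf_whiskerRight_tmul f N _ p _).trans
        ((congrArg (fun z : Q.obj (op V) => z ⊗ₜ[(R ⋙ forget₂ CommRingCat.{u} RingCat.{u}).obj (op V)] N.map g.op n) hp).trans
          (tensor_presheaf_map_tmul N g.op q n).symm)
    | add a b ha hb =>
      refine J.superset_covering ?_ (J.intersection_covering ha hb)
      rintro V g ⟨⟨x, hx⟩, ⟨y, hy⟩⟩
      refine ⟨x + y, ?_⟩
      erw [map_add, map_add, hx, hy]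

theorem smul_tmul_swap {V : Cᵒᵖ} (r : (R ⋙ forget₂ CommRingCat.{u} RingCat.{u}).obj V) (p : P.obj V)
    (n : N.obj V) : (r • p) ⊗ₜ[(R ⋙ forget₂ CommRingCat.{u} RingCat.{u}).obj V] n =
      p ⊗ₜ[(R ⋙ forget₂ CommRingCat.{u} RingCat.{u}).obj V] (r • n) :=
  let A : Type u := R.obj V
  letI : Module A (P.obj V) := inferInstanceAs (Module ((R ⋙ forget₂ CommRingCat.{u} RingCat.{u}).obj V) (P.obj V))
  letI : Module A (N.obj V) := inferInstanceAs (Module ((R ⋙ forget₂ CommRingCat.{u} RingCat.{u}).obj V) (N.obj V))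
  TensorProduct.smul_tmul (R := A) (show A from r) p n

theorem presheaf_map_map (F : Cᵒᵖ ⥤ AddCommGrpCat.{u}) {U V W : Cᵒᵖ} (g : U ⟶ V) (h : V ⟶ W)
    (x : F.obj U) : F.map h (F.map g x) = F.map (g ≫ h) x :=
  (ConcreteCategory.congr_hom (F.map_comp g h) x).symm

theorem isLocallyInjective_whiskerRight [HasSheafify J AddCommGrpCat.{u}]
    [inj : Presheaf.IsLocallyInjective J ((PresheafOfModules.toPresheaf _).map f)]
    [surj : Presheaf.IsLocallySurjective J ((PresheafOfModules.toPresheaf _).map f)] :
    Presheaf.IsLocallyInjective J ((PresheafOfModules.toPresheaf _).map (f ▷ N)) where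
  equalizerSieve_mem {U} x y hxy := by
    obtain ⟨U⟩ := U
    let φ : P.presheaf ⟶ Q.presheaf := (PresheafOfModules.toPresheaf _).map f
    have : Presheaf.IsLocallyInjective J φ := inj
    have : Presheaf.IsLocallySurjective J φ := surj
    let A := (presheafToSheaf J AddCommGrpCat.{u}).obj (P ⊗ N).presheaf
    let η : (P ⊗ N).presheaf ⟶ A.obj := CategoryTheory.toSheafify J (P ⊗ N).presheaf
    let e : ∀ (V : Cᵒᵖ), P.obj V → N.obj V → A.obj.obj V := fun V p n =>
      η.app V (p ⊗ₜ[(R ⋙ forget₂ CommRingCat.{u} RingCat.{u}).obj V] n)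
    have e_map : ∀ {V W : Cᵒᵖ} (g : V ⟶ W) (p : P.obj V) (n : N.obj V),
        A.obj.map g (e V p n) = e W (P.map g p) (N.map g n) := fun {V W} g p n =>
      (NatTrans.naturality_apply η g _).symm
    -- `η (p ⊗ n)` depends on `p` only through its image in `Q`
    have e_congr : ∀ {V : Cᵒᵖ} (p p' : P.obj V) (n : N.obj V), f.app V p = f.app V p' →
        e V p n = e V p' n := fun {V} p p' n h => by
      refine A.isSeparated _ _
        (Presheaf.equalizerSieve_mem J φ (X := V) p p' h) _ _ ?_
      intro W g (hg : P.map g.op p = P.map g.op p')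
      rw [e_map, e_map, hg]
    let Rel : Q.obj (op U) → N.obj (op U) → A.obj.obj (op U) → Prop := fun q n b =>
      ∀ ⦃V : Cᵒᵖ⦄ (g : op U ⟶ V) (p : P.obj V), f.app V p = Q.map g q →
        A.obj.map g b = e V p (N.map g n)
    have huniq : ∀ q n b b', Rel q n b → Rel q n b' → b = b' := fun q n b b' hb hb' => by
      refine A.isSeparated _ _ (Presheaf.imageSieve_mem J φ (U := op U) q) _ _ ?_
      rintro V g ⟨p, hp⟩
      exact (hb g.op p hp).trans (hb' g.op p hp).symm
    have hex : ∀ q n, ∃ b, Rel q n b := fun q n => by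
      let S := Presheaf.imageSieve φ (U := U) q
      let fam : Presieve.FamilyOfElements (A.obj ⋙ forget AddCommGrpCat.{u}) S.arrows :=
        fun V g hg => e (op V) hg.choose (N.map g.op n)
      have hfam : fam.Compatible := by
        intro V₁ V₂ W g₁ g₂ k₁ k₂ h₁ h₂ hk
        change A.obj.map g₁.op (e _ _ _) = A.obj.map g₂.op (e _ _ _)
        refine ((e_map _ _ _).trans ?_).trans (e_map _ _ _).symm
        have hn : N.map g₁.op (N.map k₁.op n) = N.map g₂.op (N.map k₂.op n) :=
          (presheaf_map_map N.presheaf k₁.op g₁.op n).trans ((congrArg (fun k => N.presheaf.map k n)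
            (congrArg Quiver.Hom.op hk)).trans (presheaf_map_map N.presheaf k₂.op g₂.op n).symm)
        rw [hn]
        refine e_congr _ _ _ ?_
        refine ((NatTrans.naturality_apply φ g₁.op _).trans ?_).trans
          (NatTrans.naturality_apply φ g₂.op _).symm
        rw [h₁.choose_spec, h₂.choose_spec]
        exact (presheaf_map_map Q.presheaf k₁.op g₁.op q).trans ((congrArg (fun k => Q.presheaf.map k q)
            (congrArg Quiver.Hom.op hk)).trans (presheaf_map_map Q.presheaf k₂.op g₂.op q).symm)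
      have hS : S ∈ J U := Presheaf.imageSieve_mem J φ (U := op U) q
      have hsh := ((sheafCompose J (forget AddCommGrpCat.{u})).obj A).2.isSheafFor S hS
      refine ⟨hsh.amalgamate fam hfam, fun V g p hp => ?_⟩
      refine A.isSeparated _ _ (J.pullback_stable g.unop hS) _ _ ?_
      intro W k hk
      have h1 := hsh.valid_glue hfam (k ≫ g.unop) hk
      refine ((presheaf_map_map A.obj g k.op _).trans h1).trans ?_
      refine Eq.trans ?_ (e_map k.op p _).symm
      have hn : N.map (k ≫ g.unop).op n = N.map k.op (N.map g n) :=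
        (presheaf_map_map N.presheaf g k.op n).symm
      change e _ hk.choose (N.map (k ≫ g.unop).op n) = _
      rw [hn]
      refine e_congr _ _ _ (hk.choose_spec.trans ?_)
      refine Eq.trans ?_ (NatTrans.naturality_apply φ k.op p).symm
      exact (presheaf_map_map Q.presheaf g k.op q).symm.trans (congrArg (Q.presheaf.map k.op) hp.symm)
    choose β hβ using hex
    have hβadd₁ : ∀ q q' n, β (q + q') n = β q n + β q' n := fun q q' n => by
      refine A.isSeparated _ _ (J.intersection_covering (Presheaf.imageSieve_mem J φ (U := op U) q)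
        (Presheaf.imageSieve_mem J φ (U := op U) q')) _ _ ?_
      rintro V g ⟨⟨p, hp⟩, ⟨p', hp'⟩⟩
      have h : f.app (op V) (p + p') = Q.map g.op (q + q') := by
        erw [map_add, map_add, hp, hp']; rfl
      rw [map_add, hβ _ _ g.op _ h, hβ _ _ g.op p hp, hβ _ _ g.op p' hp']
      exact (congrArg (η.app (op V)) (TensorProduct.add_tmul p p' _)).trans (map_add _ _ _)
    have hβadd₂ : ∀ q n n', β q (n + n') = β q n + β q n' := fun q n n' => by
      refine A.isSeparated _ _ (Presheaf.imageSieve_mem J φ (U := op U) q) _ _ ?_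
      rintro V g ⟨p, hp⟩
      rw [map_add, hβ _ _ g.op p hp, hβ _ _ g.op p hp, hβ _ _ g.op p hp]
      exact (congrArg (fun z => η.app (op V) (p ⊗ₜ[(R ⋙ forget₂ CommRingCat.{u} RingCat.{u}).obj (op V)] z))
          (map_add (N.map g.op).hom n n')).trans
        ((congrArg (η.app (op V)) (TensorProduct.tmul_add p _ _)).trans (map_add _ _ _))
    have hβsmul : ∀ (r : (R ⋙ forget₂ CommRingCat.{u} RingCat.{u}).obj (op U)) q n,
        β (r • q) n = β q (r • n) := fun r q n => by
      refine A.isSeparated _ _ (Presheaf.imageSieve_mem J φ (U := op U) q) _ _ ?_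
      rintro V g ⟨p, hp⟩
      have h : f.app (op V) ((R ⋙ forget₂ CommRingCat.{u} RingCat.{u}).map g.op r • p) =
          Q.map g.op (r • q) := by
        erw [map_smul, PresheafOfModules.map_smul, hp]; rfl
      rw [hβ _ _ g.op _ h, hβ _ _ g.op p hp]
      change η.app _ _ = η.app _ _
      congr 1
      erw [PresheafOfModules.map_smul]
      exact smul_tmul_swap N _ p _
    let L : (Q.obj (op U)) ⊗[(R ⋙ forget₂ CommRingCat.{u} RingCat.{u}).obj (op U)] (N.obj (op U)) →+ A.obj.obj (op U) :=
      TensorProduct.liftAddHom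
        (AddMonoidHom.mk' (fun q => AddMonoidHom.mk' (β q) (hβadd₂ q))
          (fun q q' => AddMonoidHom.ext (hβadd₁ q q')))
        hβsmul
    have hL : ∀ (z : (P.obj (op U)) ⊗[(R ⋙ forget₂ CommRingCat.{u} RingCat.{u}).obj (op U)] (N.obj (op U))),
        L (((PresheafOfModules.toPresheaf _).map (f ▷ N)).app (op U) z) = η.app (op U) z := by
      intro z
      induction z using TensorProduct.induction_on with
      | zero => erw [map_zero, map_zero]
      | tmul p n =>
        have h := hβ (f.app (op U) p) n (𝟙 (op U)) p (by simp)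
        simp only [CategoryTheory.Functor.map_id] at h
        exact h.trans (by simp [e])
      | add a b ha hb => erw [map_add, map_add, ha, hb, map_add]
    apply Presheaf.equalizerSieve_mem J η
    exact (hL x).symm.trans ((congrArg L hxy).trans (hL y))

end GrothLib.SheafCoh
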