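import Groth.Agent.Lib.SheafCoh.Acyclic
import Mathlib.CategoryTheory.Abelian.Exact
import Mathlib.Algebra.Homology.ShortComplex.ExactFunctor

/-!
# Weakly contractible objects
-/

universe u

open CategoryTheory Limits Opposite

namespace GrothLib.SheafCoh

variable {C : Type u} [SmallCategory C] {J : GrothendieckTopology C}

lemma epi_forget_of_epi {F G : Sheaf J AddCommGrpCat.{u}} (φ : F ⟶ G) [Epi φ] :
    Epi ((sheafCompose J (forget AddCommGrpCat.{u})).map φ) := by
  have : Sheaf.IsLocallySurjective φ := (Sheaf.isLocallySurjective_iff_epi' _ φ).2 inferInstance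
  have : Sheaf.IsLocallySurjective ((sheafCompose J (forget AddCommGrpCat.{u})).map φ) :=
    ⟨fun {U} s => Presheaf.imageSieve_mem J φ.hom s⟩
  exact (Sheaf.isLocallySurjective_iff_epi _).1 this

lemma sections_surjective_of_weaklyContractible {U : C} (hU : CohSite.IsWeaklyContractible J U)
    {F G : Sheaf J AddCommGrpCat.{u}} (φ : F ⟶ G) [Epi φ] :
    Function.Surjective (φ.hom.app (op U)) :=
  hU _ _ _ (epi_forget_of_epi φ)

/-- Sections over `U`. -/
noncomputable abbrev sectFunctor (J : GrothendieckTopology C) (U : C) :
    Sheaf J AddCommGrpCat.{u} ⥤ AddCommGrpCat.{u} :=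
  sheafToPresheaf J AddCommGrpCat.{u} ⋙ (evaluation Cᵒᵖ AddCommGrpCat.{u}).obj (op U)

theorem preservesFiniteColimits_sect {U : C} (hU : CohSite.IsWeaklyContractible J U) :
    PreservesFiniteColimits (sectFunctor J U) := by
  have : (sectFunctor J U).PreservesEpimorphisms := ⟨fun f _ =>
    (AddCommGrpCat.epi_iff_surjective _).2 (sections_surjective_of_weaklyContractible hU f)⟩
  have : PreservesFiniteLimits (sectFunctor J U) :=
    comp_preservesFiniteLimits _ _
  have : (sectFunctor J U).Additive := {}
  have := Functor.preservesHomology_of_preservesEpis_and_kernels (sectFunctor J U)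
  exact Functor.preservesFiniteColimits_of_preservesHomology _

theorem subsingleton_HU_of_weaklyContractible {U : C} (hU : CohSite.IsWeaklyContractible J U)
    (F : Sheaf J AddCommGrpCat.{u}) (n : ℕ) : Subsingleton (CohSite.HU F (n + 1) U) :=
  subsingleton_HU_of_class U (fun _ => True)
    (fun _ _ => ⟨trivial, sections_surjective_of_weaklyContractible hU _⟩) F trivial n

end GrothLib.SheafCoh
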